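import Cfsg.Agent.H742.HT.QL

/-!
# S3512, quasisimple rows: fixed points of `p`-subgroups, stabilisers, coverage

All lemmas are for a half-transitive `G` (`Half G h`, `m * h = |G|`), no coprimality.

* `fus` : `i * m = |V| - 1`, `P ≤ G` a `p`-group (any prime `p`, here `s`): `i * (m % s) + 1 ≤ |C_V(P)|`;
* `fus_fx` : the same for one element `x` of `s`-power order;
* `fus_gen` : the general form, for any group action (and for the orbits of a normal subgroup);
* `exists_relIndex`, `exists_fixed`, `coverage`, `index_dvd`, `fpf`, `rank_two`.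
-/

set_option autoImplicit false
set_option linter.unusedSectionVars false

universe u w

namespace Cfsg.Agent.H742.HT.Fus

open Cfsg.Agent.H828.HT

section act

variable {Γ X : Type*} [Group Γ] [MulAction Γ X] [Finite X] {s : ℕ} [Fact s.Prime]

/-- the points of a set counted by orbits -/
theorem card_eq_sum [Fintype (MulAction.orbitRel.Quotient Γ X)] :
    Nat.card X = ∑ ω : MulAction.orbitRel.Quotient Γ X, Nat.card ω.orbit := by
  rw [Nat.card_congr (MulAction.selfEquivSigmaOrbits' Γ X), Nat.card_sigma]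

/-- the points with a property counted by orbits -/
theorem card_subtype_eq_sum [Fintype (MulAction.orbitRel.Quotient Γ X)] (A : X → Prop) :
    Nat.card {x // A x} = ∑ ω : MulAction.orbitRel.Quotient Γ X, Nat.card {x : ω.orbit // A x} := by
  rw [← Nat.card_sigma]
  refine Nat.card_congr ⟨fun x => ⟨⟦x.1⟧, ⟨⟨x.1, ?_⟩, x.2⟩⟩, fun y => ⟨y.2.1.1, y.2.2⟩, ?_, ?_⟩
  · exact MulAction.orbitRel.Quotient.mem_orbit.2 rfl
  · intro x; rfl
  · rintro ⟨ω, ⟨⟨x, hx⟩, hA⟩⟩
    have h1 : Quotient.mk _ x = ω := MulAction.orbitRel.Quotient.mem_orbit.1 hx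
    subst h1
    rfl

theorem orbit_modEq (P : Subgroup Γ) (hP : IsPGroup s P) (ω : MulAction.orbitRel.Quotient Γ X) :
    Nat.card ω.orbit ≡ Nat.card {x : ω.orbit // ∀ g ∈ P, g • (x : X) = x} [MOD s] := by
  have h1 := hP.card_modEq_card_fixedPoints ω.orbit
  have h2 : Nat.card (MulAction.fixedPoints P ω.orbit) = Nat.card {x : ω.orbit // ∀ g ∈ P, g • (x : X) = x} := ?_
  · rwa [h2] at h1
  refine Nat.card_congr (Equiv.subtypeEquivRight fun x => ?_)
  constructor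
  · intro hx g hg
    exact congrArg Subtype.val (hx ⟨g, hg⟩)
  · intro hx g
    exact Subtype.ext (hx g g.2)

/-- **fixed points of `s`-subgroups, general form** -/
theorem fus_gen (P : Subgroup Γ) (hP : IsPGroup s P) {c M : ℕ}
    (hX : ∀ x : X, c * Nat.card (MulAction.orbit Γ x) ≤ M * (Nat.card (MulAction.orbit Γ x) % s)) :
    c * Nat.card X ≤ M * Nat.card {x : X // ∀ g ∈ P, g • x = x} := by
  classical
  let _ : Fintype (MulAction.orbitRel.Quotient Γ X) := Fintype.ofFinite _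
  rw [card_eq_sum (Γ := Γ) (X := X), card_subtype_eq_sum (Γ := Γ) (fun x : X => ∀ g ∈ P, g • x = x),
    Finset.mul_sum, Finset.mul_sum]
  refine Finset.sum_le_sum fun ω _ => ?_
  have h1 := orbit_modEq P hP ω
  have h2 : c * Nat.card ω.orbit ≤ M * (Nat.card ω.orbit % s) := by
    induction ω using Quotient.inductionOn' with
    | h x => exact hX x
  refine h2.trans (Nat.mul_le_mul_left _ ?_)
  rw [h1]
  exact Nat.mod_le _ _

/-- in an orbit of length prime to `s` an `s`-subgroup has a fixed point -/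
theorem exists_fix (P : Subgroup Γ) (hP : IsPGroup s P) (x : X) (hx : ¬ s ∣ Nat.card (MulAction.orbit Γ x)) :
    ∃ g : Γ, ∀ k ∈ P, k • g • x = g • x := by
  have h1 := hP.card_modEq_card_fixedPoints (MulAction.orbit Γ x)
  have h2 : Nat.card (MulAction.fixedPoints P (MulAction.orbit Γ x)) ≠ 0 := by
    intro h3
    rw [h3] at h1
    exact hx (Nat.modEq_zero_iff_dvd.1 h1)
  have h4 : Nonempty (MulAction.fixedPoints P (MulAction.orbit Γ x)) := (Nat.card_ne_zero.1 h2).1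
  obtain ⟨⟨⟨y, g, hg⟩, hy⟩⟩ := h4
  refine ⟨g, fun k hk => ?_⟩
  have h5 := congrArg Subtype.val (hy ⟨k, hk⟩)
  change k • y = y at h5
  have hg' : g • x = y := hg
  rw [hg']
  exact h5

theorem dvd_card_of_dvd_orbits {k : ℕ} (hX : ∀ x : X, k ∣ Nat.card (MulAction.orbit Γ x)) : k ∣ Nat.card X := by
  rw [Nat.card_congr (MulAction.selfEquivSigmaOrbits Γ X), Nat.card_sigma]
  exact Finset.dvd_sum (fun ω _ => hX _)

/-- an `s`-subgroup `P` has, in every orbit, a point `y` with `|P : P_y|` dividing the length -/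
theorem exists_rel (P : Subgroup Γ) (hP : IsPGroup s P) [Finite P] (x : X) :
    ∃ g : Γ, Nat.card (MulAction.orbit P (g • x)) ∣ Nat.card (MulAction.orbit Γ x) := by
  classical
  have hpow : ∀ y : X, ∃ k, Nat.card (MulAction.orbit P y) = s ^ k := by
    intro y
    obtain ⟨n, hn⟩ := IsPGroup.iff_card.1 hP
    have h2 : Nat.card (MulAction.orbit P y) ∣ s ^ n := by
      rw [← hn]
      refine ⟨Nat.card (MulAction.stabilizer P y), ?_⟩
      rw [← Nat.card_prod]
      exact (Nat.card_congr (MulAction.orbitProdStabilizerEquivGroup P y)).symm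
    obtain ⟨k, -, hk⟩ := (Nat.dvd_prime_pow (Fact.out : s.Prime)).1 h2
    exact ⟨k, hk⟩
  choose e he using hpow
  have : Nonempty (MulAction.orbit Γ x) := ⟨⟨x, MulAction.mem_orbit_self x⟩⟩
  obtain ⟨⟨y, g, hg⟩, hmin⟩ := Finite.exists_min (fun y : MulAction.orbit Γ x => e y)
  refine ⟨g, ?_⟩
  have hg' : g • x = y := hg
  rw [hg', he]
  refine dvd_card_of_dvd_orbits (Γ := P) (X := MulAction.orbit Γ x) ?_
  intro z
  have h1 : Nat.card (MulAction.orbit P z) = Nat.card (MulAction.orbit P (z : X)) := by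
    refine Nat.card_congr ⟨fun t => ⟨t.1.1, ?_⟩, fun t => ⟨⟨t.1, ?_⟩, ?_⟩, ?_, ?_⟩
    · obtain ⟨k, hk⟩ := t.2
      exact ⟨k, congrArg Subtype.val hk⟩
    · obtain ⟨k, hk⟩ := t.2
      obtain ⟨l, hl⟩ := z.2
      have hl' : l • x = z := hl
      have hk' : (k : Γ) • (z : X) = t.1 := hk
      rw [← hk', ← hl']
      exact ⟨k * l, by simp [mul_smul]⟩
    · obtain ⟨k, hk⟩ := t.2
      exact ⟨k, Subtype.ext hk⟩
    · intro t; rfl
    · intro t; rfl
  rw [h1, he]
  exact pow_dvd_pow _ (hmin z)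

end act

/-! ### Half-transitive groups -/

section half

variable {p : ℕ} [Fact p.Prime] {V : Type u} [AddCommGroup V] [Module (ZMod p) V] [Finite V]
  {G L : Subgroup (V ≃ₗ[ZMod p] V)} {h : ℕ}

/-- the space of the vectors fixed by `X` -/
def fxs (X : Subgroup (V ≃ₗ[ZMod p] V)) : Submodule (ZMod p) V := ⨅ g ∈ X, fx g

@[simp] theorem mem_fxs {X : Subgroup (V ≃ₗ[ZMod p] V)} {v : V} : v ∈ fxs X ↔ ∀ g ∈ X, g v = v := by
  simp [fxs]

/-- the non-zero vectors as a set with an action of `D` -/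
@[reducible] def actN (D : Subgroup (V ≃ₗ[ZMod p] V)) : MulAction D {v : V // v ≠ 0} where
  smul g v := ⟨(g : V ≃ₗ[ZMod p] V) v.1, fun h => v.2 ((g : V ≃ₗ[ZMod p] V).map_eq_zero_iff.1 h)⟩
  one_smul _ := Subtype.ext rfl
  mul_smul _ _ _ := Subtype.ext rfl

theorem card_orbit_actN (D : Subgroup (V ≃ₗ[ZMod p] V)) (v : {v : V // v ≠ 0}) :
    (letI := actN D; Nat.card (MulAction.orbit D v)) = Nat.card (MulAction.orbit D v.1) := by
  let _ := actN D
  change Nat.card (MulAction.orbit D v) = _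
  refine Nat.card_congr ⟨fun t => ⟨t.1.1, ?_⟩, fun t => ⟨⟨t.1, ?_⟩, ?_⟩, ?_, ?_⟩
  · obtain ⟨k, hk⟩ := t.2
    exact ⟨k, congrArg Subtype.val hk⟩
  · obtain ⟨k, hk⟩ := t.2
    have hk' : (k : V ≃ₗ[ZMod p] V) v.1 = t.1 := hk
    rw [← hk']
    exact fun h => v.2 ((k : V ≃ₗ[ZMod p] V).map_eq_zero_iff.1 h)
  · obtain ⟨k, hk⟩ := t.2
    exact ⟨k, Subtype.ext hk⟩
  · intro t; rfl
  · intro t; rfl

theorem card_ne_zero : Nat.card {v : V // v ≠ 0} + 1 = Nat.card V := by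
  classical
  have h1 : Nat.card {v : V // v ≠ 0} = (Finset.univ.erase (0 : V)).card := by
    rw [Nat.card_eq_fintype_card, Fintype.card_subtype]
    congr 1
    ext v; simp
  rw [h1, Finset.card_erase_of_mem (Finset.mem_univ _), Finset.card_univ, Nat.card_eq_fintype_card]
  exact Nat.sub_add_cancel Fintype.card_pos

theorem card_sub_ne_zero (W : Submodule (ZMod p) V) (A : V → Prop) (hA : ∀ v, A v ↔ v ∈ W) :
    Nat.card {v : {v : V // v ≠ 0} // A v.1} + 1 = Nat.card W := by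
  classical
  have h1 : Nat.card {v : {v : V // v ≠ 0} // A v.1} = Nat.card {w : W // w ≠ 0} :=
    Nat.card_congr ⟨fun v => ⟨⟨v.1.1, (hA _).1 v.2⟩, fun h => v.1.2 (congrArg Subtype.val h)⟩,
      fun w => ⟨⟨w.1.1, fun h => w.2 (Subtype.ext h)⟩, (hA _).2 w.1.2⟩, fun _ => rfl, fun _ => rfl⟩
  rw [h1]
  exact card_ne_zero

/-- **fixed points, general form**: `D` any group of linear maps, `P ≤ D` an `s`-group; if all `D`-orbits `O` of
non-zero vectors have `c |O| ≤ M (|O| mod s)` then `c (|V| - 1) ≤ M (|C_V(P)| - 1)` -/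
theorem fus_D (D : Subgroup (V ≃ₗ[ZMod p] V)) {s : ℕ} [Fact s.Prime] (P : Subgroup (V ≃ₗ[ZMod p] V)) (hPD : P ≤ D)
    (hP : IsPGroup s P) {c M : ℕ}
    (hX : ∀ v : V, v ≠ 0 → c * Nat.card (MulAction.orbit D v) ≤ M * (Nat.card (MulAction.orbit D v) % s)) :
    c * (Nat.card V - 1) ≤ M * (Nat.card (fxs P) - 1) := by
  let _ := actN D
  have h1 := fus_gen (Γ := D) (X := {v : V // v ≠ 0}) (P.subgroupOf D)
    (hP.of_equiv (Subgroup.subgroupOfEquivOfLe hPD).symm) (c := c) (M := M) (by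
      intro v
      rw [card_orbit_actN]
      exact hX v.1 v.2)
  have h2 := card_sub_ne_zero (fxs P) (fun v => ∀ g ∈ P, g v = v) (fun v => mem_fxs.symm)
  have h3 : Nat.card {x : {v : V // v ≠ 0} // ∀ g ∈ P.subgroupOf D, g • x = x} =
      Nat.card {v : {v : V // v ≠ 0} // ∀ g ∈ P, g v.1 = v.1} := by
    refine Nat.card_congr (Equiv.subtypeEquivRight fun x => ?_)
    constructor
    · intro hx g hg
      exact congrArg Subtype.val (hx ⟨g, hPD hg⟩ hg)
    · intro hx g hg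
      exact Subtype.ext (hx g hg)
  rw [h3] at h1
  have h4 := card_ne_zero (V := V)
  rwa [← h2, ← h4, Nat.add_sub_cancel, Nat.add_sub_cancel]

/-- all `L`-orbits have length `≤ M` prime to `s`: `|V| - 1 ≤ M (|C_V(P)| - 1)` -/
theorem fus_le (D : Subgroup (V ≃ₗ[ZMod p] V)) {s : ℕ} [Fact s.Prime] (P : Subgroup (V ≃ₗ[ZMod p] V)) (hPD : P ≤ D)
    (hP : IsPGroup s P) {M : ℕ}
    (hX : ∀ v : V, v ≠ 0 → Nat.card (MulAction.orbit D v) ≤ M ∧ ¬ s ∣ Nat.card (MulAction.orbit D v)) :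
    Nat.card V - 1 ≤ M * (Nat.card (fxs P) - 1) := by
  have h1 := fus_D D P hPD hP (c := 1) (M := M) (by
    intro v hv
    obtain ⟨h1, h2⟩ := hX v hv
    rw [one_mul]
    have h3 : 1 ≤ Nat.card (MulAction.orbit D v) % s := by
      rw [Nat.dvd_iff_mod_eq_zero] at h2
      omega
    exact h1.trans (Nat.le_mul_of_pos_right _ h3))
  rwa [one_mul] at h1

/-- **fusion**: `i` orbits of length `m`; every `s`-subgroup `P` of `G` has at least `i (m mod s)` non-zero fixed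
vectors -/
theorem fus (hh : Half G h) (h0 : 0 < h) {m i : ℕ} (hm : m * h = Nat.card G) (hi : i * m = Nat.card V - 1)
    {s : ℕ} (hs : s.Prime) (P : Subgroup (V ≃ₗ[ZMod p] V)) (hPG : P ≤ G) (hP : IsPGroup s P) :
    i * (m % s) + 1 ≤ Nat.card (fxs P) := by
  have : Fact s.Prime := ⟨hs⟩
  have h1 := fus_D G P hPG hP (c := m % s) (M := m) (by
    intro v hv
    rw [orbit_card hh h0 hm hv, mul_comm])
  have hpos : 0 < Nat.card (fxs P) := Nat.card_pos
  have hm0 : 0 < m := by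
    have : 0 < Nat.card G := Nat.card_pos
    rw [← hm] at this
    exact Nat.pos_of_mul_pos_right this
  rw [← hi] at h1
  have h2 : m * (i * (m % s)) ≤ m * (Nat.card (fxs P) - 1) := by
    calc m * (i * (m % s)) = m % s * (i * m) := by ring
      _ ≤ _ := h1
  have h3 := Nat.le_of_mul_le_mul_left h2 hm0
  omega

theorem fxs_zpowers (x : V ≃ₗ[ZMod p] V) : fxs (Subgroup.zpowers x) = fx x := by
  ext v
  rw [mem_fxs, mem_fx]
  constructor
  · intro h
    exact h x (Subgroup.mem_zpowers x)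
  · intro hx g hg
    have h1 : Subgroup.zpowers x ≤ MulAction.stabilizer (V ≃ₗ[ZMod p] V) v := by
      rw [Subgroup.zpowers_le]
      exact hx
    exact h1 hg

theorem isPGroup_zpowers {x : V ≃ₗ[ZMod p] V} {s k : ℕ} (hx : x ^ s ^ k = 1) :
    IsPGroup s (Subgroup.zpowers x) := by
  rintro ⟨y, j, rfl⟩
  refine ⟨k, Subtype.ext ?_⟩
  change (x ^ j) ^ s ^ k = 1
  rw [← zpow_natCast, ← zpow_mul, mul_comm, zpow_mul, zpow_natCast, hx, one_zpow]

/-- the same for one element -/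
theorem fus_fx (hh : Half G h) (h0 : 0 < h) {m i : ℕ} (hm : m * h = Nat.card G) (hi : i * m = Nat.card V - 1)
    {s : ℕ} (hs : s.Prime) {x : V ≃ₗ[ZMod p] V} (hx : x ∈ G) {k : ℕ} (hxk : x ^ s ^ k = 1) :
    i * (m % s) + 1 ≤ Nat.card (fx x) := by
  rw [← fxs_zpowers]
  exact fus hh h0 hm hi hs _ ((Subgroup.zpowers_le).2 hx) (isPGroup_zpowers hxk)

/-- `|D : D_v|` times `|D_v|` is `|D|` -/
theorem orbit_mul_stab (D : Subgroup (V ≃ₗ[ZMod p] V)) (v : V) :
    Nat.card (MulAction.orbit D v) * Nat.card (MulAction.stabilizer D v) = Nat.card D := by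
  rw [← Nat.card_prod]
  exact Nat.card_congr (MulAction.orbitProdStabilizerEquivGroup D v)

/-- `|L : L_v|` divides `m` -/
theorem index_dvd (hh : Half G h) (h0 : 0 < h) {m : ℕ} (hm : m * h = Nat.card G) (hL : L ≤ G)
    (hn : ∀ g ∈ G, ∀ l ∈ L, g * l * g⁻¹ ∈ L) {v : V} (hv : v ≠ 0) :
    ∃ k, k ∣ m ∧ k * Nat.card (MulAction.stabilizer L v) = Nat.card L :=
  ⟨_, orbit_normal_dvd_m hh h0 hm L hL hn hv, orbit_mul_stab L v⟩

/-- the stabiliser in `L` has order dividing `h` -/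
theorem stab_dvd (hh : Half G h) (hL : L ≤ G) {v : V} (hv : v ≠ 0) :
    Nat.card (MulAction.stabilizer L v) ∣ h := by
  have h1 : Nat.card ((MulAction.stabilizer L v).map L.subtype) = Nat.card (MulAction.stabilizer L v) :=
    (Nat.card_congr ((MulAction.stabilizer L v).equivMapOfInjective _ L.subtype_injective).toEquiv).symm
  rw [← h1]
  refine card_dvd_h hh _ ?_ hv ?_
  · rintro _ ⟨g, -, rfl⟩
    exact hL g.2
  · rintro _ ⟨g, hg, rfl⟩
    exact hg

/-- a power `s ^ a` prime to `m` that divides `|L|` divides `|L_v|` -/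
theorem part_dvd_stab (hh : Half G h) (h0 : 0 < h) {m : ℕ} (hm : m * h = Nat.card G) (hL : L ≤ G)
    (hn : ∀ g ∈ G, ∀ l ∈ L, g * l * g⁻¹ ∈ L) {d : ℕ} (hd : d ∣ Nat.card L) (hc : d.Coprime m) {v : V} (hv : v ≠ 0) :
    d ∣ Nat.card (MulAction.stabilizer L v) := by
  obtain ⟨k, hk, hk'⟩ := index_dvd hh h0 hm hL hn hv
  rw [← hk'] at hd
  exact (Nat.Coprime.coprime_dvd_right hk hc).dvd_of_dvd_mul_left hd

/-- an `s`-subgroup `Q` of `L ⊴ G`, `s` not dividing `m`, fixes a vector of each `L`-orbit -/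
theorem exists_fixed_subgroup (hh : Half G h) (h0 : 0 < h) {m : ℕ} (hm : m * h = Nat.card G) (hL : L ≤ G)
    (hn : ∀ g ∈ G, ∀ l ∈ L, g * l * g⁻¹ ∈ L) {s : ℕ} (hs : s.Prime) (hsm : ¬ s ∣ m)
    (Q : Subgroup (V ≃ₗ[ZMod p] V)) (hQL : Q ≤ L) (hQ : IsPGroup s Q) {v : V} (hv : v ≠ 0) :
    ∃ l ∈ L, ∀ x ∈ Q, x (l v) = l v := by
  have : Fact s.Prime := ⟨hs⟩
  have h1 : ¬ s ∣ Nat.card (MulAction.orbit L v) := fun hc =>
    hsm (hc.trans (orbit_normal_dvd_m hh h0 hm L hL hn hv))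
  obtain ⟨g, hg⟩ := exists_fix (Γ := L) (X := V) (Q.subgroupOf L)
    (hQ.of_equiv (Subgroup.subgroupOfEquivOfLe hQL).symm) v h1
  exact ⟨g, g.2, fun x hx => hg ⟨x, hQL hx⟩ hx⟩

/-- an element `x ∈ L` of `s`-power order, `s` not dividing `m`: every `v` is fixed by an `L`-conjugate of `x` -/
theorem exists_fixed (hh : Half G h) (h0 : 0 < h) {m : ℕ} (hm : m * h = Nat.card G) (hL : L ≤ G)
    (hn : ∀ g ∈ G, ∀ l ∈ L, g * l * g⁻¹ ∈ L) {s : ℕ} (hs : s.Prime) (hsm : ¬ s ∣ m)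
    {x : V ≃ₗ[ZMod p] V} (hx : x ∈ L) {k : ℕ} (hxk : x ^ s ^ k = 1) {v : V} (hv : v ≠ 0) :
    ∃ l ∈ L, (l * x * l⁻¹) v = v := by
  obtain ⟨l, hl, h1⟩ := exists_fixed_subgroup hh h0 hm hL hn hs hsm (Subgroup.zpowers x)
    ((Subgroup.zpowers_le).2 hx) (isPGroup_zpowers hxk) hv
  refine ⟨l⁻¹, L.inv_mem hl, ?_⟩
  have h2 := h1 x (Subgroup.mem_zpowers x)
  rw [inv_inv]
  change l⁻¹ (x (l v)) = v
  rw [h2]
  change (l⁻¹ * l) v = v
  rw [inv_mul_cancel]; rfl

/-- an `s`-subgroup `Q` of `L ⊴ G` has in every `L`-orbit a vector `u` with `|Q : Q_u|` dividing `m` -/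
theorem exists_relIndex (hh : Half G h) (h0 : 0 < h) {m : ℕ} (hm : m * h = Nat.card G) (hL : L ≤ G)
    (hn : ∀ g ∈ G, ∀ l ∈ L, g * l * g⁻¹ ∈ L) {s : ℕ} (hs : s.Prime)
    (Q : Subgroup (V ≃ₗ[ZMod p] V)) (hQL : Q ≤ L) (hQ : IsPGroup s Q) {v : V} (hv : v ≠ 0) :
    ∃ l ∈ L, ∃ k, k ∣ m ∧ k * Nat.card (MulAction.stabilizer Q (l v)) = Nat.card Q := by
  have : Fact s.Prime := ⟨hs⟩
  obtain ⟨g, hg⟩ := exists_rel (Γ := L) (X := V) (Q.subgroupOf L)
    (hQ.of_equiv (Subgroup.subgroupOfEquivOfLe hQL).symm) v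
  refine ⟨g, g.2, Nat.card (MulAction.orbit Q ((g : V ≃ₗ[ZMod p] V) v)), ?_, orbit_mul_stab Q _⟩
  refine dvd_trans ?_ (hg.trans (orbit_normal_dvd_m hh h0 hm L hL hn hv))
  refine dvd_of_eq (Nat.card_congr (Equiv.setCongr ?_))
  ext y
  constructor
  · rintro ⟨k, hk⟩
    exact ⟨⟨⟨k, hQL k.2⟩, k.2⟩, hk⟩
  · rintro ⟨k, hk⟩
    exact ⟨⟨k.1.1, k.2⟩, hk⟩

/-- **coverage**: `s ∤ m`, `x ∈ L` of `s`-power order: the fixed spaces of the `L`-conjugates of `x` cover `V` -/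
theorem coverage (hh : Half G h) (h0 : 0 < h) {m : ℕ} (hm : m * h = Nat.card G) (hL : L ≤ G)
    (hn : ∀ g ∈ G, ∀ l ∈ L, g * l * g⁻¹ ∈ L) {s : ℕ} (hs : s.Prime) (hsm : ¬ s ∣ m)
    {x : V ≃ₗ[ZMod p] V} (hx : x ∈ L) {k : ℕ} (hxk : x ^ s ^ k = 1) {N : ℕ}
    (hN : Nat.card {Q : Subgroup (V ≃ₗ[ZMod p] V) // ∃ l ∈ L, Q = Subgroup.zpowers (l * x * l⁻¹)} ≤ N) :
    Nat.card V - 1 ≤ N * (Nat.card (fx x) - 1) := by
  classical
  let ι := {Q : Subgroup (V ≃ₗ[ZMod p] V) // ∃ l ∈ L, Q = Subgroup.zpowers (l * x * l⁻¹)}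
  have : Finite ι := inferInstance
  let _ : Fintype ι := Fintype.ofFinite ι
  have h1 : ∀ v : {v : V // v ≠ 0}, ∃ Q : ι, v.1 ∈ fxs Q.1 := by
    intro v
    obtain ⟨l, hl, h2⟩ := exists_fixed hh h0 hm hL hn hs hsm hx hxk v.2
    refine ⟨⟨_, l, hl, rfl⟩, ?_⟩
    change v.1 ∈ fxs (Subgroup.zpowers (l * x * l⁻¹))
    rw [fxs_zpowers, mem_fx]
    exact h2
  choose Q hQ using h1
  have h2 : ∀ R : ι, Nat.card (fxs R.1) = Nat.card (fx x) := by
    rintro ⟨_, l, hl, rfl⟩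
    change Nat.card (fxs (Subgroup.zpowers (l * x * l⁻¹))) = _
    rw [fxs_zpowers]
    refine Nat.card_congr ⟨fun w => ⟨l⁻¹ w.1, ?_⟩, fun w => ⟨l w.1, ?_⟩, ?_, ?_⟩
    · have h3 : (l * x * l⁻¹) w.1 = w.1 := mem_fx.1 w.2
      rw [mem_fx]
      have h4 := congrArg (fun z => l⁻¹ z) h3
      change (l⁻¹ * (l * x * l⁻¹)) w.1 = l⁻¹ w.1 at h4
      have h5 : l⁻¹ * (l * x * l⁻¹) = x * l⁻¹ := by group
      rw [h5] at h4
      exact h4
    · have h3 : x w.1 = w.1 := mem_fx.1 w.2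
      rw [mem_fx]
      change (l * x * l⁻¹ * l) w.1 = l w.1
      have h5 : l * x * l⁻¹ * l = l * x := by group
      rw [h5]
      change l (x w.1) = l w.1
      rw [h3]
    · intro w
      refine Subtype.ext ?_
      change (l * l⁻¹) w.1 = w.1
      rw [mul_inv_cancel]; rfl
    · intro w
      refine Subtype.ext ?_
      change (l⁻¹ * l) w.1 = w.1
      rw [inv_mul_cancel]; rfl
  have h3 : Nat.card {v : V // v ≠ 0} ≤ ∑ R : ι, Nat.card {w : fxs R.1 // w ≠ 0} := by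
    rw [← Nat.card_sigma]
    refine Nat.card_le_card_of_injective
      (fun v => (⟨Q v, ⟨⟨v.1, hQ v⟩, fun hc => v.2 (congrArg Subtype.val hc)⟩⟩ :
        Σ R : ι, {w : fxs R.1 // w ≠ 0})) ?_
    intro v w hvw
    have h1 := (Sigma.mk.inj_iff.1 hvw).1
    have h2 := (Sigma.mk.inj_iff.1 hvw).2
    have h3 : ∀ (i j : ι) (a : {w : fxs i.1 // w ≠ 0}) (b : {w : fxs j.1 // w ≠ 0}), i = j → HEq a b →
        (a.1 : V) = b.1 := by
      rintro i _ a b rfl hab
      rw [eq_of_heq hab]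
    exact Subtype.ext (h3 _ _ _ _ h1 h2)
  have h4 : ∀ R : ι, Nat.card {w : fxs R.1 // w ≠ 0} = Nat.card (fx x) - 1 := by
    intro R
    have h5 := card_ne_zero (V := fxs R.1)
    rw [h2] at h5
    omega
  have h5 := card_ne_zero (V := V)
  rw [Finset.sum_congr rfl (fun R _ => h4 R), Finset.sum_const, smul_eq_mul, Finset.card_univ,
    ← Nat.card_eq_fintype_card] at h3
  calc Nat.card V - 1 = Nat.card {v : V // v ≠ 0} := by omega
    _ ≤ _ := h3
    _ ≤ _ := Nat.mul_le_mul_right _ hN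

/-- elements of prime order `s`, `s ∤ h`, have no non-zero fixed vectors -/
theorem fpf (hh : Half G h) {s : ℕ} (hs : s.Prime) (hsh : ¬ s ∣ h) {x : V ≃ₗ[ZMod p] V} (hx : x ∈ G)
    (hxs : x ^ s = 1) (hx1 : x ≠ 1) : fx x = ⊥ := by
  rw [eq_bot_iff]
  intro v hv
  rw [Submodule.mem_bot]
  by_contra hv0
  have : Fact s.Prime := ⟨hs⟩
  apply hsh
  refine dvd_h hh (g := ⟨x, hx⟩) ?_ hv0 (mem_fx.1 hv)
  refine orderOf_eq_prime (Subtype.ext hxs) ?_
  intro h1
  exact hx1 (congrArg Subtype.val h1)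

/-- an element of prime order `s` without non-zero fixed vectors: the sum of its powers is `0` -/
theorem sum_pow_eq_zero {x : V ≃ₗ[ZMod p] V} (hf : fx x = ⊥) {s : ℕ} (hxs : x ^ s = 1) (v : V) :
    ∑ i ∈ Finset.range s, (x ^ i) v = 0 := by
  rcases Nat.eq_zero_or_pos s with rfl | hs
  · simp
  have h1 : ∑ i ∈ Finset.range s, (x ^ i) v ∈ fx x := by
    rw [mem_fx, map_sum]
    obtain ⟨s, rfl⟩ : ∃ t, s = t + 1 := ⟨s - 1, by omega⟩
    have h1 : ∀ i, x ((x ^ i) v) = (x ^ (i + 1)) v := by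
      intro i
      rw [pow_succ']; rfl
    rw [Finset.sum_congr rfl (fun i _ => h1 i), Finset.sum_range_succ, Finset.sum_range_succ', hxs, pow_zero]
  rw [hf] at h1
  exact (Submodule.mem_bot _).1 h1

theorem cast_smul_eq_zero {n : ℕ} (hn : ¬ p ∣ n) {v : V} (h : n • v = 0) : v = 0 := by
  have h1 : ((n : ZMod p)) • v = 0 := by rw [Nat.cast_smul_eq_nsmul, h]
  rcases smul_eq_zero.1 h1 with h2 | h2
  · exact absurd ((ZMod.natCast_eq_zero_iff _ _).1 h2) hn
  · exact h2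

/-- **(R2)**: two commuting elements of prime order `r ≠ p`, not both powers of one: `r ∣ h` -/
theorem rank_two' (hh : Half G h) (hV : ∃ v : V, v ≠ 0) {r : ℕ} (hr : r.Prime) (hrp : r ≠ p)
    {a b : V ≃ₗ[ZMod p] V} (ha : a ∈ G) (hb : b ∈ G)
    (hab : a * b = b * a) (har : a ^ r = 1) (hbr : b ^ r = 1) (ha1 : a ≠ 1)
    (hba : b ∉ Subgroup.zpowers a) : r ∣ h := by
  by_contra hrh
  obtain ⟨v, hv⟩ := hV
  apply hv
  have hcomm : Commute a b := hab
  have h1 : ∀ i, ∑ j ∈ Finset.range r, ((a ^ i * b) ^ j) v = 0 := by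
    intro i
    have h0 : (a ^ i * b) ^ r = 1 := by
      rw [(hcomm.pow_left i).mul_pow, ← pow_mul, mul_comm i, pow_mul, har, one_pow, hbr, mul_one]
    refine sum_pow_eq_zero (fpf hh hr hrh (G.mul_mem (G.pow_mem ha i) hb) h0 ?_) h0 v
    intro hc
    apply hba
    have : b = (a ^ i)⁻¹ := (inv_eq_of_mul_eq_one_right hc).symm
    rw [this]
    exact Subgroup.inv_mem _ (Subgroup.pow_mem _ (Subgroup.mem_zpowers a) i)
  have h2 : ∑ i ∈ Finset.range r, ∑ j ∈ Finset.range r, ((a ^ i * b) ^ j) v = 0 :=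
    Finset.sum_eq_zero (fun i _ => h1 i)
  rw [Finset.sum_comm] at h2
  have h3 : ∀ j ∈ Finset.range r, j ≠ 0 → ∑ i ∈ Finset.range r, ((a ^ i * b) ^ j) v = 0 := by
    intro j hj hj0
    have hjr : j < r := Finset.mem_range.1 hj
    have h4 : ∀ i, ((a ^ i * b) ^ j) v = ((a ^ j) ^ i) ((b ^ j) v) := by
      intro i
      rw [(hcomm.pow_left i).mul_pow, ← pow_mul, mul_comm i, pow_mul]; rfl
    rw [Finset.sum_congr rfl (fun i _ => h4 i)]
    have h0 : (a ^ j) ^ r = 1 := by rw [← pow_mul, mul_comm, pow_mul, har, one_pow]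
    refine sum_pow_eq_zero (fpf hh hr hrh (G.pow_mem ha j) h0 ?_) h0 _
    intro hc
    have h5 : orderOf a = r := by
      have : Fact r.Prime := ⟨hr⟩
      exact orderOf_eq_prime har ha1
    have h6 := orderOf_dvd_of_pow_eq_one hc
    rw [h5] at h6
    exact absurd (Nat.le_of_dvd (by omega) h6) (by omega)
  rw [Finset.sum_eq_single_of_mem 0 (Finset.mem_range.2 hr.pos) h3] at h2
  simp only [pow_zero] at h2
  rw [Finset.sum_const, Finset.card_range] at h2
  refine cast_smul_eq_zero (p := p) ?_ h2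
  intro hd
  exact hrp ((Nat.prime_dvd_prime_iff_eq (Fact.out : p.Prime) hr).1 hd).symm

/-- **(R2)**: a non-cyclic abelian group of exponent `r ≠ p` in `L ≤ G` forces `r ∣ h` -/
theorem rank_two (hh : Half G h) (hV : ∃ v : V, v ≠ 0) (hL : L ≤ G) {r : ℕ} (hr : r.Prime) (hrp : r ≠ p)
    (E : Subgroup L) (hc : ∀ x ∈ E, ∀ y ∈ E, x * y = y * x) (he : ∀ x ∈ E, x ^ r = 1) (hcyc : ¬ IsCyclic E) :
    r ∣ h := by
  obtain ⟨a, ha, ha1⟩ : ∃ a ∈ E, a ≠ 1 := by
    by_contra hcon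
    push Not at hcon
    apply hcyc
    refine ⟨⟨1, fun x => ?_⟩⟩
    have : x = 1 := Subtype.ext (hcon x x.2)
    exact Subgroup.mem_zpowers_iff.2 ⟨0, by rw [this, zpow_zero]⟩
  obtain ⟨b, hb, hba⟩ : ∃ b ∈ E, b ∉ Subgroup.zpowers a := by
    by_contra hcon
    push Not at hcon
    apply hcyc
    refine ⟨⟨⟨a, ha⟩, fun x => ?_⟩⟩
    obtain ⟨k, hk⟩ := Subgroup.mem_zpowers_iff.1 (hcon x x.2)
    exact Subgroup.mem_zpowers_iff.2 ⟨k, Subtype.ext hk⟩
  refine rank_two' hh hV hr hrp (a := (a : V ≃ₗ[ZMod p] V)) (b := (b : V ≃ₗ[ZMod p] V)) (hL a.2) (hL b.2)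
    (congrArg Subtype.val (hc a ha b hb)) (congrArg Subtype.val (he a ha)) (congrArg Subtype.val (he b hb)) ?_ ?_
  · intro h1
    exact ha1 (Subtype.ext h1)
  · intro h1
    apply hba
    obtain ⟨k, hk⟩ := Subgroup.mem_zpowers_iff.1 h1
    exact Subgroup.mem_zpowers_iff.2 ⟨k, Subtype.ext hk⟩

end half

/-! ### The same for `QL`, and the `K`-structure of fixed spaces -/

section ql

open Module

variable {p : ℕ} [Fact p.Prime] {K : Type w} [Field K] {V : Type u} [AddCommGroup V] [Module (ZMod p) V] [Finite V]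
    [Module K V] {G L : Subgroup (V ≃ₗ[ZMod p] V)} {h : ℕ}

/-- the fixed space of a group of `K`-linear maps, over `K` -/
def kfx (X : Subgroup (V ≃ₗ[ZMod p] V)) (hX : ∀ l ∈ X, ∀ (c : K) (v : V), l (c • v) = c • l v) : Submodule K V where
  carrier := {v | v ∈ fxs X}
  add_mem' := fun ha hb => (fxs X).add_mem ha hb
  zero_mem' := (fxs X).zero_mem
  smul_mem' := by
    intro c v hv
    have hv' := mem_fxs.1 hv
    exact mem_fxs.2 fun g hg => by rw [hX g hg, hv' g hg]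

theorem card_kfx [Finite K] (X : Subgroup (V ≃ₗ[ZMod p] V))
    (hX : ∀ l ∈ X, ∀ (c : K) (v : V), l (c • v) = c • l v) :
    Nat.card (fxs X) = Nat.card K ^ finrank K (kfx X hX) := by
  have : Module.Finite K V := Module.Finite.of_finite
  exact Module.natCard_eq_pow_finrank (K := K) (V := kfx X hX)

theorem finrank_kfx_lt [Finite K] (X : Subgroup (V ≃ₗ[ZMod p] V))
    (hX : ∀ l ∈ X, ∀ (c : K) (v : V), l (c • v) = c • l v) (hne : X ≠ ⊥) :
    finrank K (kfx X hX) < finrank K V := by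
  have : Module.Finite K V := Module.Finite.of_finite
  refine Submodule.finrank_lt ?_
  intro htop
  apply hne
  rw [eq_bot_iff]
  intro g hg
  rw [Subgroup.mem_bot]
  ext v
  have h1 : v ∈ kfx X hX := by rw [htop]; trivial
  exact mem_fxs.1 h1 g hg

/-- the order of the fixed space of a group of `K`-linear maps is a power of `|K|` -/
theorem card_fxs [Finite K] (X : Subgroup (V ≃ₗ[ZMod p] V))
    (hX : ∀ l ∈ X, ∀ (c : K) (v : V), l (c • v) = c • l v) :
    ∃ c, Nat.card (fxs X) = Nat.card K ^ c ∧ c ≤ finrank K V ∧ (X ≠ ⊥ → c < finrank K V) := by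
  have : Module.Finite K V := Module.Finite.of_finite
  exact ⟨_, card_kfx X hX, Submodule.finrank_le _, finrank_kfx_lt X hX⟩

/-- the order of the fixed space of an element of a group of `K`-linear maps -/
theorem card_fx [Finite K] (hL : ∀ l ∈ L, ∀ (c : K) (v : V), l (c • v) = c • l v) {x : V ≃ₗ[ZMod p] V} (hx : x ∈ L) :
    ∃ c, Nat.card (fx x) = Nat.card K ^ c ∧ c ≤ finrank K V ∧ (x ≠ 1 → c < finrank K V) := by
  obtain ⟨c, h2, h3, h4⟩ := card_fxs (K := K) (Subgroup.zpowers x)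
    (fun l hl => hL l ((Subgroup.zpowers_le).2 hx hl))
  rw [fxs_zpowers] at h2
  refine ⟨c, h2, h3, fun hx1 => h4 ?_⟩
  rwa [Ne, Subgroup.zpowers_eq_bot]

theorem finrank_ker_comp_le {F W : Type*} [Field F] [AddCommGroup W] [Module F W] [Module.Finite F W]
    (f g : W →ₗ[F] W) : finrank F (LinearMap.ker (f ∘ₗ g)) ≤ finrank F (LinearMap.ker f) + finrank F (LinearMap.ker g) := by
  let r : LinearMap.ker (f ∘ₗ g) →ₗ[F] LinearMap.ker f :=
    (g.comp (LinearMap.ker (f ∘ₗ g)).subtype).codRestrict _ (fun w => w.2)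
  have h1 := r.finrank_range_add_finrank_ker
  have h2 : finrank F (LinearMap.range r) ≤ finrank F (LinearMap.ker f) := Submodule.finrank_le _
  have h3 : finrank F (LinearMap.ker r) ≤ finrank F (LinearMap.ker g) := by
    refine LinearMap.finrank_le_finrank_of_injective
      (f := ((LinearMap.ker (f ∘ₗ g)).subtype.comp (LinearMap.ker r).subtype).codRestrict (LinearMap.ker g) ?_) ?_
    · intro w
      have := congrArg Subtype.val (LinearMap.mem_ker.1 w.2)
      exact this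
    · intro a b hab
      have h4 : (a.1.1 : W) = b.1.1 := congrArg (fun z : LinearMap.ker g => (z : W)) hab
      exact Subtype.ext (Subtype.ext h4)
  omega

theorem finrank_ker_pow_le {F W : Type*} [Field F] [AddCommGroup W] [Module F W] [Module.Finite F W]
    (f : W →ₗ[F] W) (k : ℕ) : finrank F (LinearMap.ker (f ^ k)) ≤ k * finrank F (LinearMap.ker f) := by
  induction k with
  | zero =>
    rw [pow_zero, zero_mul, Nat.le_zero]
    have : LinearMap.ker (1 : W →ₗ[F] W) = ⊥ := LinearMap.ker_id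
    rw [this, finrank_bot]
  | succ k ih =>
    rw [pow_succ]
    have := finrank_ker_comp_le (f ^ k) f
    rw [add_mul, one_mul]
    exact this.trans (Nat.add_le_add_right ih _)

/-- `(x - 1) ^ (p ^ k) = x ^ (p ^ k) - 1` -/
theorem sub_one_pow (x : V ≃ₗ[ZMod p] V) (k : ℕ) (v : V) :
    (((x : V →ₗ[ZMod p] V) - LinearMap.id : Module.End (ZMod p) V) ^ p ^ k) v = (x ^ p ^ k) v - v := by
  open Polynomial in
  have h1 : ((X : (ZMod p)[X]) - 1) ^ p ^ k = X ^ p ^ k - 1 := by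
    rw [sub_pow_char_pow, one_pow]
  have h2 := congrArg (fun f => (Polynomial.aeval (x : Module.End (ZMod p) V) f) v) h1
  simp only [map_pow, map_sub, Polynomial.aeval_X, map_one] at h2
  have h3 : ∀ (j : ℕ) (v : V), ((x : Module.End (ZMod p) V) ^ j) v = (x ^ j) v := by
    intro j
    induction j with
    | zero => intro v; rfl
    | succ j ih => intro v; rw [pow_succ, pow_succ]; exact ih (x v)
  have h4 : (((x : Module.End (ZMod p) V)) ^ p ^ k - 1) v = (x ^ p ^ k) v - v := by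
    rw [LinearMap.sub_apply, h3]; rfl
  rw [← h4]
  exact h2

/-- **unipotent elements**: `x ∈ L`, `x ^ (p ^ k) = 1`: `dim_K V ≤ p ^ k * dim_K C_V(x)` -/
theorem card_fx_p [Finite K] (hL : ∀ l ∈ L, ∀ (c : K) (v : V), l (c • v) = c • l v) {x : V ≃ₗ[ZMod p] V} (hx : x ∈ L)
    {k : ℕ} (hxk : x ^ p ^ k = 1) :
    ∃ c, Nat.card (fx x) = Nat.card K ^ c ∧ finrank K V ≤ p ^ k * c ∧ (x ≠ 1 → c < finrank K V) := by
  have : Module.Finite K V := Module.Finite.of_finite
  have hxl : ∀ l ∈ Subgroup.zpowers x, ∀ (c : K) (v : V), l (c • v) = c • l v :=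
    fun l hl => hL l ((Subgroup.zpowers_le).2 hx hl)
  have e0 := card_kfx (Subgroup.zpowers x) hxl
  rw [fxs_zpowers] at e0
  refine ⟨finrank K (kfx (Subgroup.zpowers x) hxl), e0, ?_, fun hx1 => finrank_kfx_lt _ hxl ?_⟩
  · let T : V →ₗ[K] V :=
      { toFun := fun v => x v - v
        map_add' := fun v w => by rw [map_add]; abel
        map_smul' := fun c v => by rw [hL x hx, RingHom.id_apply, smul_sub] }
    have h1 : ∀ (j : ℕ) (v : V), (T ^ j) v =
        (((x : V →ₗ[ZMod p] V) - LinearMap.id : Module.End (ZMod p) V) ^ j) v := by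
      intro j
      induction j with
      | zero => intro v; rfl
      | succ j ih => intro v; rw [pow_succ, pow_succ]; exact ih (T v)
    have h2 : T ^ p ^ k = 0 := by
      ext v
      rw [h1, sub_one_pow, hxk]
      change v - v = 0
      rw [sub_self]
    have h3 := finrank_ker_pow_le T (p ^ k)
    rw [h2, LinearMap.ker_zero, finrank_top] at h3
    have h4 : LinearMap.ker T = kfx (Subgroup.zpowers x) hxl := by
      ext v
      change x v - v = 0 ↔ v ∈ fxs (Subgroup.zpowers x)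
      rw [fxs_zpowers, mem_fx, sub_eq_zero]
    rwa [h4] at h3
  · rwa [Ne, Subgroup.zpowers_eq_bot]

end ql

end Cfsg.Agent.H742.HT.Fus
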