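import Cfsg.Agent.H828.HT.Basic
import Cfsg.Agent.H19.HT.Irr

/-!
# S3512, quasisimple rows (`p ∣ |G|`): the setting

`QL p K V G L h`: `G` is a half-transitive group of `𝔽_p`-linear maps of `V` with stabilisers of order `h`,
`L ⊴ G` is quasisimple, acts irreducibly on `V` over `𝔽_p`, and the field `K` is the centraliser of `L` in
`End_{𝔽_p}(V)`. (No hypothesis on `p` and `|G|`; `H337.HT.QS` is this with `¬ p ∣ |G|` and `2 ≤ h`.)

`Tr G`: `G` is transitive on the non-zero vectors. `ExcSL G`: conclusion (iii) of S3512.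
`CandP`: the numerical conditions used in the sieves.
-/

set_option autoImplicit false

universe u w

namespace Cfsg.Agent.H742.HT

open Cfsg.Agent.H828.HT

/-- the setting of the quasisimple rows -/
structure QL (p : ℕ) [Fact p.Prime] (K : Type w) [Field K] (V : Type u) [AddCommGroup V] [Module (ZMod p) V]
    [Module K V] (G L : Subgroup (V ≃ₗ[ZMod p] V)) (h : ℕ) : Prop where
  half : Half G h
  le : L ≤ G
  nrm : ∀ g ∈ G, ∀ l ∈ L, g * l * g⁻¹ ∈ L
  perf : commutator L = ⊤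
  simple : IsSimpleGroup (L ⧸ Subgroup.center L)
  nonab : ∃ a ∈ L, ∃ b ∈ L, a * b ≠ b * a
  lin : ∀ l ∈ L, ∀ (c : K) (v : V), l (c • v) = c • l v
  endo : ∀ f : V →ₗ[ZMod p] V, (∀ l ∈ L, ∀ v, f (l v) = l (f v)) → ∃ c : K, ∀ v, f v = c • v
  irr : ∀ W : Submodule (ZMod p) V, (∀ l ∈ L, ∀ v ∈ W, l v ∈ W) → W = ⊥ ∨ W = ⊤

/-- transitive on the non-zero vectors -/
def Tr {p : ℕ} [Fact p.Prime] {V : Type u} [AddCommGroup V] [Module (ZMod p) V]
    (G : Subgroup (V ≃ₗ[ZMod p] V)) : Prop :=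
  ∀ v w : V, v ≠ 0 → w ≠ 0 → ∃ g ∈ G, g v = w

/-- conclusion (iii) of S3512, with the number of orbits expressed by their length -/
def ExcSL {p : ℕ} [Fact p.Prime] {V : Type u} [AddCommGroup V] [Module (ZMod p) V]
    (G : Subgroup (V ≃ₗ[ZMod p] V)) (h : ℕ) : Prop :=
  p = 3 ∧ Nat.card V = 81 ∧ Nat.card G = 40 * h ∧
    ∃ (F : Type) (_ : Field F) (_ : Fintype F), Fintype.card F = 5 ∧
      ∃ S : Subgroup G, S.Normal ∧ Nonempty (S ≃* Matrix.SpecialLinearGroup (Fin 2) F)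

/-- helper192's inequality, `N = |V|` -/
def Ineq (N m h : ℕ) : Prop :=
  N * (h - 1) * (N - m + 1) ≤ (m - 1) * (m - 2) * (N + (h - 1) * (m - 1))

instance decIneq (N m h : ℕ) : Decidable (Ineq N m h) := by unfold Ineq; infer_instance

/-- the order of `GL_n(q)` -/
def glOrd (q n : ℕ) : ℕ := ((List.range n).map fun i => q ^ n - q ^ i).prod

/-- the numerical conditions: `o = |S|`, `A = |Aut S|`, `n = dim_K V`, `q = |K|`, `R` a known divisor of `h` -/
def CandP (p R o A n q m h : ℕ) : Prop :=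
  p ∣ h ∧ ¬ p ∣ m ∧ R ∣ h ∧ m ∣ q ^ n - 1 ∧ o ∣ m * h ∧ m * h ∣ (q - 1) * A ∧ q ^ n ≤ 2 * m ^ 2 ∧
    Ineq (q ^ n) m h ∧ o ∣ glOrd q n

end Cfsg.Agent.H742.HT
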