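import Cfsg.Agent.H392.HT.SFacts
import Cfsg.Agent.SporadicA.FieldFour

/-!
# The group `PSL(2,13)`: elements of order 2, 3 and 13 (helper742, for S3512)
-/

set_option autoImplicit false
set_option linter.unusedSectionVars false

universe v

namespace Cfsg.Agent.H742.HT.T13

open Cfsg.Agent

variable {S : Type v} [Group S]

abbrev SL := Matrix.SpecialLinearGroup (Fin 2) (ZMod 13)
abbrev PSL := Matrix.ProjectiveSpecialLinearGroup (Fin 2) (ZMod 13)

instance : Fact (Nat.Prime 13) := ⟨by norm_num⟩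

theorem exists_iso (hS : H912.Bd.IsL 2 13 S) : Nonempty (S ≃* PSL) := by
  obtain ⟨K, _, _, hK, ⟨e⟩⟩ := hS
  exact ⟨e.trans (SporadicA.FieldFour.pslCongr
    (FiniteField.ringEquivOfCardEq (by rw [hK, ZMod.card])))⟩

theorem card_S (hS : H912.Bd.IsL 2 13 S) : Nat.card S = 1092 := by
  obtain ⟨K, _, _, hK, ⟨e⟩⟩ := hS
  have h := ClassicalGeometry.PSL2Basic.card_PSL2_gcd (F := K)
  rw [hK] at h
  rw [Nat.card_congr e.toEquiv]
  have h2 : Nat.gcd 2 (13 - 1) = 2 := rfl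
  rw [h2] at h
  omega

theorem card_mulAut (hS : H912.Bd.IsL 2 13 S) : Nat.card (MulAut S) = 2184 := by
  obtain ⟨K, _, _, hK, ⟨e⟩⟩ := hS
  rw [Nat.card_congr (MulAut.congr e).toEquiv, S0813.result 13 1 le_rfl (by rw [hK]; rfl) 2 le_rfl (fun _ => by norm_num),
      if_pos rfl, one_mul, ClassicalGeometry.PSL2Basic.card_PGL2, hK]
  rfl

/-! ### Matrices -/

theorem mk_eq_one_iff {A : SL} : (QuotientGroup.mk A : PSL) = 1 ↔
    A.1 0 1 = 0 ∧ A.1 1 0 = 0 ∧ A.1 0 0 = A.1 1 1 := by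
  rw [QuotientGroup.eq_one_iff, Matrix.SpecialLinearGroup.mem_center_iff]
  constructor
  · rintro ⟨c, -, hA⟩
    rw [← hA]
    simp [Matrix.scalar_apply]
  · rintro ⟨h1, h2, h3⟩
    refine ⟨A.1 0 0, ?_, ?_⟩
    · have h4 := A.2
      rw [Matrix.det_fin_two, h1, h2, ← h3] at h4
      rw [Fintype.card_fin, pow_two]
      linear_combination h4
    · ext i j
      fin_cases i <;> fin_cases j <;> simp [Matrix.scalar_apply, h1, h2, h3]

theorem sq_entries {A : SL} : (A ^ 2).1 0 1 = A.1 0 1 * (A.1 0 0 + A.1 1 1) ∧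
    (A ^ 2).1 1 0 = A.1 1 0 * (A.1 0 0 + A.1 1 1) ∧
    (A ^ 2).1 0 0 - (A ^ 2).1 1 1 = (A.1 0 0 - A.1 1 1) * (A.1 0 0 + A.1 1 1) := by
  rw [pow_two, Matrix.SpecialLinearGroup.coe_mul]
  refine ⟨?_, ?_, ?_⟩ <;> simp [Matrix.mul_apply, Fin.sum_univ_two] <;> ring

/-- involutions of `PSL(2,13)` lift to matrices of trace `0` -/
theorem trace_eq_zero {A : SL} (h2 : (QuotientGroup.mk A : PSL) ^ 2 = 1) (h1 : (QuotientGroup.mk A : PSL) ≠ 1) :
    A.1 1 1 = - A.1 0 0 := by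
  rw [← QuotientGroup.mk_pow, mk_eq_one_iff] at h2
  rw [Ne, mk_eq_one_iff] at h1
  obtain ⟨e1, e2, e3⟩ := sq_entries (A := A)
  rw [e1, e2, ← sub_eq_zero (a := (A ^ 2).1 0 0), e3] at h2
  obtain ⟨f1, f2, f3⟩ := h2
  by_contra hne
  have h4 : A.1 0 0 + A.1 1 1 ≠ 0 := by
    intro h5
    exact hne (eq_neg_of_add_eq_zero_right h5)
  apply h1
  refine ⟨(mul_eq_zero.1 f1).resolve_right h4, (mul_eq_zero.1 f2).resolve_right h4,
    sub_eq_zero.1 ((mul_eq_zero.1 f3).resolve_right h4)⟩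

set_option maxRecDepth 100000 in
theorem count : Fintype.card {x : ZMod 13 × ZMod 13 × ZMod 13 // x.1 * x.1 + x.2.1 * x.2.2 = -1} = 182 := by
  decide +kernel

set_option maxRecDepth 100000 in
theorem nil_dec : ∀ a b c : ZMod 13, a * a + b * c = -1 → ∃ x y z : ZMod 13, (x ≠ 0 ∨ y ≠ 0) ∧ x * x + y * z = 0 ∧
    2 * a * x + b * z + c * y = 0 := by
  decide +kernel

/-- the matrix `1 + N`, `N` nilpotent -/
def un (x y z : ZMod 13) (h : x * x + y * z = 0) : SL :=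
  ⟨!![1 + x, y; z, 1 - x], by rw [Matrix.det_fin_two_of]; linear_combination -h⟩

theorem un_pow (x y z : ZMod 13) (h : x * x + y * z = 0) (k : ℕ) :
    ((un x y z h ^ k : SL) : Matrix (Fin 2) (Fin 2) (ZMod 13)) = !![1 + k * x, k * y; k * z, 1 - k * x] := by
  induction k with
  | zero => ext i j; fin_cases i <;> fin_cases j <;> simp
  | succ k ih =>
    rw [pow_succ, Matrix.SpecialLinearGroup.coe_mul, ih]
    change !![1 + k * x, k * y; k * z, 1 - k * x] * !![1 + x, y; z, 1 - x] = _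
    ext i j
    fin_cases i <;> fin_cases j <;> simp [Matrix.mul_apply, Fin.sum_univ_two]
    · linear_combination (k : ZMod 13) * h
    · ring
    · ring
    · linear_combination (k : ZMod 13) * h

theorem un_pow_thirteen (x y z : ZMod 13) (h : x * x + y * z = 0) : un x y z h ^ 13 = 1 := by
  apply Subtype.ext
  rw [un_pow]
  have h13 : ((13 : ℕ) : ZMod 13) = 0 := by decide
  rw [h13]
  ext i j
  fin_cases i <;> fin_cases j <;> simp

theorem un_ne (x y z : ZMod 13) (h : x * x + y * z = 0) (hne : x ≠ 0 ∨ y ≠ 0) :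
    (QuotientGroup.mk (un x y z h) : PSL) ≠ 1 := by
  rw [Ne, mk_eq_one_iff]
  rintro ⟨h1, -, h3⟩
  change y = 0 at h1
  change 1 + x = 1 - x at h3
  rcases hne with hx | hy
  · apply hx
    have h4 : (2 : ZMod 13) * x = 0 := by linear_combination h3
    rcases mul_eq_zero.1 h4 with h5 | h5
    · exact absurd h5 (by decide)
    · exact h5
  · exact hy h1

/-- **every involution of `PSL(2,13)` inverts an element of order 13** -/
theorem inv13' (s : PSL) (h2 : s ^ 2 = 1) (h1 : s ≠ 1) : ∃ z : PSL, z ^ 13 = 1 ∧ z ≠ 1 ∧ s * z * s⁻¹ = z ^ 12 := by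
  obtain ⟨A, rfl⟩ := QuotientGroup.mk_surjective s
  have ht := trace_eq_zero h2 h1
  have hdet : A.1 0 0 * A.1 0 0 + A.1 0 1 * A.1 1 0 = -1 := by
    have h4 := A.2
    rw [Matrix.det_fin_two, ht] at h4
    linear_combination -h4
  obtain ⟨x, y, z, hne, hN, hA⟩ := nil_dec _ _ _ hdet
  refine ⟨QuotientGroup.mk (un x y z hN), ?_, un_ne x y z hN hne, ?_⟩
  · rw [← QuotientGroup.mk_pow, un_pow_thirteen]; rfl
  · rw [mul_inv_eq_iff_eq_mul, ← QuotientGroup.mk_pow, ← QuotientGroup.mk_mul, ← QuotientGroup.mk_mul]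
    refine congrArg (QuotientGroup.mk' (Subgroup.center SL)) ?_
    apply Subtype.ext
    rw [Matrix.SpecialLinearGroup.coe_mul, Matrix.SpecialLinearGroup.coe_mul, un_pow]
    have hA' : (A : Matrix (Fin 2) (Fin 2) (ZMod 13)) = !![A.1 0 0, A.1 0 1; A.1 1 0, - A.1 0 0] := by
      rw [← ht]
      ext i j; fin_cases i <;> fin_cases j <;> rfl
    have h12 : ((12 : ℕ) : ZMod 13) = -1 := by decide
    rw [hA', h12]
    generalize A.1 0 0 = a at *
    generalize A.1 0 1 = b at *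
    generalize A.1 1 0 = c at *
    change !![a, b; c, -a] * !![1 + x, y; z, 1 - x] = !![1 + -1 * x, -1 * y; -1 * z, 1 - -1 * x] * !![a, b; c, -a]
    ext i j
    fin_cases i <;> fin_cases j <;> simp [Matrix.mul_apply, Fin.sum_univ_two]
    · linear_combination hA
    · ring
    · ring
    · linear_combination hA

/-- **at most 182 involutions** (in fact 91) -/
theorem inv_count' : Nat.card {s : PSL // s ^ 2 = 1 ∧ s ≠ 1} ≤ 182 := by
  rw [← count, ← Nat.card_eq_fintype_card]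
  have hlift : ∀ s : {s : PSL // s ^ 2 = 1 ∧ s ≠ 1}, ∃ A : SL, (QuotientGroup.mk A : PSL) = s.1 := fun s =>
    QuotientGroup.mk_surjective s.1
  choose A hA using hlift
  have ht : ∀ s, (A s).1 1 1 = - (A s).1 0 0 := fun s =>
    trace_eq_zero (by rw [hA]; exact s.2.1) (by rw [hA]; exact s.2.2)
  have hd : ∀ s, (A s).1 0 0 * (A s).1 0 0 + (A s).1 0 1 * (A s).1 1 0 = -1 := by
    intro s
    have h4 := (A s).2
    rw [Matrix.det_fin_two, ht] at h4
    linear_combination -h4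
  refine Nat.card_le_card_of_injective (fun s => (⟨((A s).1 0 0, (A s).1 0 1, (A s).1 1 0), hd s⟩ :
    {x : ZMod 13 × ZMod 13 × ZMod 13 // x.1 * x.1 + x.2.1 * x.2.2 = -1})) ?_
  intro s t hst
  have h1 := congrArg Subtype.val hst
  simp only [Prod.mk.injEq] at h1
  obtain ⟨e1, e2, e3⟩ := h1
  have h2 : A s = A t := by
    apply Subtype.ext
    ext i j
    fin_cases i <;> fin_cases j
    · exact e1
    · exact e2
    · exact e3
    · change (A s).1 1 1 = (A t).1 1 1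
      rw [ht, ht, e1]
  exact Subtype.ext (by rw [← hA, ← hA, h2])

/-- a Klein four group -/
theorem v4' : ∃ a b : PSL, a ^ 2 = 1 ∧ b ^ 2 = 1 ∧ a * b = b * a ∧ a ≠ 1 ∧ b ≠ 1 ∧ a ≠ b := by
  let A : SL := ⟨!![5, 0; 0, 8], by decide⟩
  let B : SL := ⟨!![0, 1; -1, 0], by decide⟩
  have hab : (QuotientGroup.mk A : PSL) * QuotientGroup.mk B = QuotientGroup.mk B * QuotientGroup.mk A := by
    rw [← QuotientGroup.mk_mul, ← QuotientGroup.mk_mul, ← inv_mul_eq_one, ← QuotientGroup.mk_inv,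
      ← QuotientGroup.mk_mul, mk_eq_one_iff]
    decide
  refine ⟨QuotientGroup.mk A, QuotientGroup.mk B, ?_, ?_, hab, ?_, ?_, ?_⟩
  · rw [← QuotientGroup.mk_pow, mk_eq_one_iff]; decide
  · rw [← QuotientGroup.mk_pow, mk_eq_one_iff]; decide
  · rw [Ne, mk_eq_one_iff]; decide
  · rw [Ne, mk_eq_one_iff]; decide
  · intro h
    rw [← inv_mul_eq_one, ← QuotientGroup.mk_inv, ← QuotientGroup.mk_mul, mk_eq_one_iff] at h
    revert h
    decide

/-- a Frobenius group of order 39 -/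
theorem frob13' : ∃ z y : PSL, z ^ 13 = 1 ∧ z ≠ 1 ∧ y ^ 3 = 1 ∧ y * z * y⁻¹ = z ^ 9 := by
  let Y : SL := ⟨!![3, 0; 0, 9], by decide⟩
  have hN : (0 : ZMod 13) * 0 + 1 * 0 = 0 := by decide
  refine ⟨QuotientGroup.mk (un 0 1 0 hN), QuotientGroup.mk Y, ?_, un_ne _ _ _ _ (Or.inr (by decide)), ?_, ?_⟩
  · rw [← QuotientGroup.mk_pow, un_pow_thirteen]; rfl
  · rw [← QuotientGroup.mk_pow, mk_eq_one_iff]; decide
  · rw [mul_inv_eq_iff_eq_mul, ← QuotientGroup.mk_pow, ← QuotientGroup.mk_mul, ← QuotientGroup.mk_mul]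
    refine congrArg (QuotientGroup.mk' (Subgroup.center SL)) ?_
    apply Subtype.ext
    rw [Matrix.SpecialLinearGroup.coe_mul, Matrix.SpecialLinearGroup.coe_mul, un_pow]
    change !![3, 0; 0, 9] * !![1 + 0, 1; 0, 1 - 0] = _ * !![3, 0; 0, 9]
    decide

/-! ### The abstract group -/

theorem inv13 (hS : H912.Bd.IsL 2 13 S) (s : S) (h2 : s ^ 2 = 1) (h1 : s ≠ 1) :
    ∃ z : S, z ^ 13 = 1 ∧ z ≠ 1 ∧ s * z * s⁻¹ = z ^ 12 := by
  obtain ⟨e⟩ := exists_iso hS
  obtain ⟨z, hz, hz1, hzz⟩ := inv13' (e s) (by rw [← map_pow, h2, map_one]) (by simpa using h1)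
  refine ⟨e.symm z, by rw [← map_pow, hz, map_one], by simpa using hz1, ?_⟩
  apply e.injective
  simpa using hzz

theorem inv_count (hS : H912.Bd.IsL 2 13 S) : Nat.card {s : S // s ^ 2 = 1 ∧ s ≠ 1} ≤ 182 := by
  obtain ⟨e⟩ := exists_iso hS
  refine (le_of_eq ?_).trans inv_count'
  refine Nat.card_congr (e.toEquiv.subtypeEquiv fun s => ?_)
  change _ ↔ (e s) ^ 2 = 1 ∧ e s ≠ 1
  rw [← map_pow, map_eq_one_iff e e.injective, Ne, Ne, map_eq_one_iff e e.injective]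

theorem v4 (hS : H912.Bd.IsL 2 13 S) :
    ∃ a b : S, a ^ 2 = 1 ∧ b ^ 2 = 1 ∧ a * b = b * a ∧ a ≠ 1 ∧ b ≠ 1 ∧ a ≠ b := by
  obtain ⟨e⟩ := exists_iso hS
  obtain ⟨a, b, h1, h2, h3, h4, h5, h6⟩ := v4'
  refine ⟨e.symm a, e.symm b, ?_, ?_, ?_, ?_, ?_, ?_⟩
  · rw [← map_pow, h1, map_one]
  · rw [← map_pow, h2, map_one]
  · rw [← map_mul, h3, map_mul]
  · simpa using h4
  · simpa using h5
  · simpa using h6

theorem frob13 (hS : H912.Bd.IsL 2 13 S) : ∃ z y : S, z ^ 13 = 1 ∧ z ≠ 1 ∧ y ^ 3 = 1 ∧ y * z * y⁻¹ = z ^ 9 := by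
  obtain ⟨e⟩ := exists_iso hS
  obtain ⟨z, y, h1, h2, h3, h4⟩ := frob13'
  refine ⟨e.symm z, e.symm y, ?_, ?_, ?_, ?_⟩
  · rw [← map_pow, h1, map_one]
  · simpa using h2
  · rw [← map_pow, h3, map_one]
  · rw [← map_inv, ← map_mul, ← map_mul, h4, map_pow]

end Cfsg.Agent.H742.HT.T13
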