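import Cfsg.Agent.H742.HT.Lift
import Cfsg.Agent.H742.HT.T13

/-!
# S3512, quasisimple rows: `L / Z(L) = PSL(2,13)` (helper742)
-/

set_option autoImplicit false
set_option linter.unusedSectionVars false

universe u w

namespace Cfsg.Agent.H742.HT.L213

open Cfsg.Agent Cfsg.Agent.H828.HT Cfsg.Agent.H742.HT Cfsg.Agent.H192.Ht Module

/-! ### The determinant of an involution -/

theorem det_involution {F W : Type*} [Field F] [AddCommGroup W] [Module F W] [Module.Finite F W]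
    (t : W →ₗ[F] W) (ht : ∀ w, t (t w) = w) :
    LinearMap.det t = (-1) ^ (finrank F W - finrank F (LinearMap.ker (t - LinearMap.id))) := by
  set U := LinearMap.ker (t - LinearMap.id) with hU
  have hmem : ∀ w, w ∈ U ↔ t w = w := by
    intro w
    rw [hU, LinearMap.mem_ker, LinearMap.sub_apply, LinearMap.id_apply, sub_eq_zero]
  have hinv : U ≤ U.comap t := by
    intro w hw
    rw [Submodule.mem_comap, (hmem w).1 hw]
    exact hw
  rw [LinearMap.det_eq_det_mul_det U t hinv]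
  have h1 : t.restrict hinv = LinearMap.id := by
    ext w
    exact (hmem w).1 w.2
  have h2 : U.mapQ U t hinv = (-1 : F) • LinearMap.id := by
    ext w
    change (Submodule.Quotient.mk (t w) : W ⧸ U) = (-1 : F) • Submodule.Quotient.mk w
    rw [← Submodule.Quotient.mk_smul, Submodule.Quotient.eq, hmem, neg_smul, one_smul, sub_neg_eq_add, map_add, ht,
      add_comm]
  rw [h1, h2, LinearMap.det_id, one_mul, LinearMap.det_smul, LinearMap.det_id, mul_one]
  congr 1
  have := Submodule.finrank_quotient_add_finrank U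
  omega

variable {p : ℕ} [Fact p.Prime] {K : Type w} [Field K] {V : Type u} [AddCommGroup V] [Module (ZMod p) V] [Finite V]
    [Module K V] {G L : Subgroup (V ≃ₗ[ZMod p] V)} {h : ℕ}

/-- an element `t` of `L` with `t ^ 2 = 1` has even `n - dim C_V(t)`, `p` odd -/
theorem even_of_involution (H : QL p K V G L h) (hp2 : p ≠ 2) {t : L} (ht : t ^ 2 = 1) {c : ℕ}
    (hc : Nat.card (fx (t : V ≃ₗ[ZMod p] V)) = Nat.card K ^ c) : Even (finrank K V - c) := by
  have hK := QN.finiteK H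
  have : Module.Finite K V := QN.finiteDim H
  have h1 := QN.det_toK H t
  have h2 := congrArg (fun u : Kˣ => (u : K)) h1
  simp only [LinearEquiv.coe_det, Units.val_one] at h2
  have h3 := det_involution ((QN.toK H t : V ≃ₗ[K] V) : V →ₗ[K] V) (by
    intro w
    change (t : V ≃ₗ[ZMod p] V) ((t : V ≃ₗ[ZMod p] V) w) = w
    have h4 : ((t : V ≃ₗ[ZMod p] V)) ^ 2 = 1 := congrArg Subtype.val ht
    have h5 := congrArg (fun e : V ≃ₗ[ZMod p] V => e w) h4
    rw [pow_two] at h5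
    exact h5)
  rw [h2] at h3
  have h4 : Nat.card (fx (t : V ≃ₗ[ZMod p] V)) =
      Nat.card K ^ finrank K (LinearMap.ker (((QN.toK H t : V ≃ₗ[K] V) : V →ₗ[K] V) - LinearMap.id)) := by
    rw [← Module.natCard_eq_pow_finrank]
    refine Nat.card_congr (Equiv.subtypeEquivRight fun v => ?_)
    change v ∈ fx (t : V ≃ₗ[ZMod p] V) ↔ v ∈ LinearMap.ker _
    rw [mem_fx, LinearMap.mem_ker, LinearMap.sub_apply, LinearMap.id_apply, sub_eq_zero]
    rfl
  rw [h4] at hc
  have h5 := Nat.pow_right_injective (QN.two_le_card H) hc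
  rw [h5] at h3
  by_contra hodd
  rw [Nat.not_even_iff_odd] at hodd
  rw [hodd.neg_one_pow] at h3
  have h6 : (2 : K) = 0 := by linear_combination h3
  have h7 := natCast_ne_zero_of (K := K) (p := p) (QN.exists_ne H) Nat.prime_two hp2.symm
  exact h7 (by exact_mod_cast h6)

/-! ### The tools for `PSL(2,13)` -/

/-- `t ∈ L` of order 2 outside the centre: `|C_V(t)| ^ 2 = |V|` -/
theorem fx_inv (H : QL p K V G L h) (hS : H912.Bd.IsL 2 13 (L ⧸ Subgroup.center L)) (hp13 : 13 ≠ p)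
    (h13 : ¬ 13 ∣ h) (hc13 : Nat.Coprime 13 (Nat.card (Subgroup.center L))) {t : L} (ht : t ^ 2 = 1)
    (ht1 : t ∉ Subgroup.center L) :
    ∃ c, 2 * c = finrank K V ∧ Nat.card (fx (t : V ≃ₗ[ZMod p] V)) = Nat.card K ^ c := by
  have hf : Fact (Nat.Prime 13) := ⟨by norm_num⟩
  obtain ⟨zb, hz, hz1, hzz⟩ := T13.inv13 hS (QuotientGroup.mk t) (by rw [← QuotientGroup.mk_pow, ht]; rfl)
    (fun hc => ht1 ((QuotientGroup.eq_one_iff t).1 hc))
  obtain ⟨z, hz', rfl⟩ := Lift.lift_pow hc13 zb hz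
  have h1 := Lift.lift_rel hc13 hz' hzz
  have hz2 : z ≠ 1 := by
    rintro rfl
    exact hz1 rfl
  obtain ⟨c, hc, hc', -⟩ := frob H hf.out hp13 (z := z) (y := t) (a := 12) (e := 2) hz' h1
    (by
      refine orderOf_eq_prime ?_ ?_
      · decide
      · decide) (by norm_num) ht
    (fun v hv => fpf_of_not_dvd H.half h13 (H.le z.2) (congrArg Subtype.val hz')
      (fun hc => hz2 (Subtype.ext hc)) hv)
  exact ⟨c, hc, hc'⟩

/-- `p = 2`, `|V| = 4096` -/
theorem two (H : QL p K V G L h) (hS : H912.Bd.IsL 2 13 (L ⧸ Subgroup.center L)) (hp13 : 13 ≠ p)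
    (h13 : ¬ 13 ∣ h) (hc13 : Nat.Coprime 13 (Nat.card (Subgroup.center L)))
    (hc2 : Nat.Coprime 2 (Nat.card (Subgroup.center L))) {m : ℕ} (hm : m * h = Nat.card G) (h2m : ¬ 2 ∣ m)
    (hV : Nat.card V = 4096) (hq : Nat.card K ^ finrank K V = 4096) : False := by
  classical
  have h0 : 0 < h := Cfsg.Agent.H19.HT.h_pos H.half (QN.exists_ne H).choose_spec
  let I := {t : L // t ^ 2 = 1 ∧ t ≠ 1}
  have hI0 : ∀ t : I, t.1 ∉ Subgroup.center L := by
    intro t hc
    apply t.2.2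
    refine Lift.eq_of_mk hc2 t.2.1 (one_pow 2) ?_
    rw [(QuotientGroup.eq_one_iff t.1).2 hc]; rfl
  have hI : Nat.card I ≤ 182 := by
    refine le_trans ?_ (T13.inv_count hS)
    refine Nat.card_le_card_of_injective (fun t : I => (⟨QuotientGroup.mk t.1, by
      rw [← QuotientGroup.mk_pow, t.2.1]; rfl, fun hc => hI0 t ((QuotientGroup.eq_one_iff t.1).1 hc)⟩ :
        {s : L ⧸ Subgroup.center L // s ^ 2 = 1 ∧ s ≠ 1})) ?_
    intro s t hst
    exact Subtype.ext (Lift.eq_of_mk hc2 s.2.1 t.2.1 (congrArg Subtype.val hst))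
  have hfx : ∀ t : I, Nat.card (fx (t.1 : V ≃ₗ[ZMod p] V)) = 64 := by
    intro t
    obtain ⟨c, hc, hc'⟩ := fx_inv H hS hp13 h13 hc13 t.2.1 (hI0 t)
    rw [← hc, mul_comm, pow_mul, ← hc'] at hq
    have h1 : Nat.card (fx (t.1 : V ≃ₗ[ZMod p] V)) ^ 2 = 64 ^ 2 := by rw [hq]; norm_num
    exact Nat.pow_left_injective (n := 2) (by norm_num) h1
  -- the four group
  obtain ⟨ab, bb, ha, hb, hab, ha1, hb1, hne⟩ := T13.v4 hS
  obtain ⟨a, ha', rfl⟩ := Lift.lift_pow hc2 ab ha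
  obtain ⟨b, hb', rfl⟩ := Lift.lift_pow hc2 bb hb
  have hcomm := Lift.lift_comm hc2 hb' hab
  have ha2 : a ≠ 1 := by rintro rfl; exact ha1 rfl
  have hb2 : b ≠ 1 := by rintro rfl; exact hb1 rfl
  have hab2 : a ≠ b := by rintro rfl; exact hne rfl
  have hc2' : (a * b) ^ 2 = 1 := by
    have : Commute a b := hcomm
    rw [this.mul_pow, ha', hb', one_mul]
  have hab1 : a * b ≠ 1 := by
    intro h1
    apply hab2
    rw [mul_eq_one_iff_eq_inv] at h1
    rw [h1]
    have : b * b = 1 := by rw [← pow_two]; exact hb'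
    exact inv_eq_of_mul_eq_one_left this
  let f : Fin 3 → L := ![a, b, a * b]
  have hf2 : ∀ i, f i ^ 2 = 1 ∧ f i ≠ 1 := by
    intro i
    fin_cases i
    · exact ⟨ha', ha2⟩
    · exact ⟨hb', hb2⟩
    · exact ⟨hc2', hab1⟩
  have hfinj : Function.Injective f := by
    intro i j hij
    fin_cases i <;> fin_cases j <;> try rfl
    · exact absurd hij hab2
    · exact absurd (mul_eq_left.1 hij.symm) hb2
    · exact absurd hij.symm hab2
    · exact absurd (mul_eq_right.1 hij.symm) ha2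
    · exact absurd (mul_eq_left.1 hij) hb2
    · exact absurd (mul_eq_right.1 hij) ha2
  -- the subgroup
  let Q : Subgroup L := Subgroup.closure {a, b}
  have hQ : ∀ x ∈ Q, x ^ 2 = 1 ∧ x * a = a * x ∧ x * b = b * x := by
    intro x hx
    refine Subgroup.closure_induction (p := fun x _ => x ^ 2 = 1 ∧ x * a = a * x ∧ x * b = b * x) ?_ ?_ ?_ ?_ hx
    · rintro x (rfl | rfl)
      · exact ⟨ha', rfl, hcomm⟩
      · exact ⟨hb', hcomm.symm, rfl⟩
    · exact ⟨one_pow 2, by simp, by simp⟩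
    · rintro x y hx hy ⟨hx1, hx2, hx3⟩ ⟨hy1, hy2, hy3⟩
      have h5 : Q ≤ Subgroup.centralizer {x} := by
        rw [Subgroup.closure_le]
        rintro _ (rfl | rfl)
        · exact Subgroup.mem_centralizer_singleton_iff.2 hx2.symm
        · exact Subgroup.mem_centralizer_singleton_iff.2 hx3.symm
      have h6 : Commute x y := (Subgroup.mem_centralizer_singleton_iff.1 (h5 hy)).symm
      exact ⟨by rw [h6.mul_pow, hx1, hy1, one_mul], by rw [mul_assoc, hy2, ← mul_assoc, hx2, mul_assoc],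
        by rw [mul_assoc, hy3, ← mul_assoc, hx3, mul_assoc]⟩
    · rintro x hx ⟨hx1, hx2, hx3⟩
      have h5 : x⁻¹ = x := inv_eq_of_mul_eq_one_left (by rw [← pow_two]; exact hx1)
      rw [h5]
      exact ⟨hx1, hx2, hx3⟩
  have hfQ : ∀ i, f i ∈ Q := by
    have haQ : a ∈ Q := Subgroup.subset_closure (Or.inl rfl)
    have hbQ : b ∈ Q := Subgroup.subset_closure (Or.inr rfl)
    intro i
    fin_cases i
    · exact haQ
    · exact hbQ
    · exact Q.mul_mem haQ hbQ
  have hQp : IsPGroup 2 (Q.map L.subtype) := by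
    rintro ⟨_, x, hx, rfl⟩
    refine ⟨1, Subtype.ext ?_⟩
    rw [pow_one]
    change (L.subtype x) ^ 2 = 1
    rw [← map_pow, (hQ x hx).1, map_one]
  have key : ∀ v : {v : V // v ≠ 0}, ∃ l : L, ∀ i, ((l⁻¹ * f i * l : L) : V ≃ₗ[ZMod p] V) v.1 = v.1 := by
    intro v
    obtain ⟨l, hl, hlv⟩ := Fus.exists_fixed_subgroup H.half h0 hm H.le H.nrm Nat.prime_two h2m (Q.map L.subtype)
      (by rintro _ ⟨x, -, rfl⟩; exact x.2) hQp v.2
    refine ⟨⟨l, hl⟩, fun i => ?_⟩
    have h1 := hlv (f i : V ≃ₗ[ZMod p] V) ⟨f i, hfQ i, rfl⟩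
    change l⁻¹ ((f i : V ≃ₗ[ZMod p] V) (l v.1)) = v.1
    rw [h1]
    change (l⁻¹ * l) v.1 = v.1
    rw [inv_mul_cancel]; rfl
  choose l hl using key
  let g : {v : V // v ≠ 0} → Fin 3 → I := fun v i => ⟨(l v)⁻¹ * f i * l v, by
    have h1 : (l v)⁻¹ * f i * l v = (l v)⁻¹ * f i * (l v)⁻¹⁻¹ := by rw [inv_inv]
    constructor
    · rw [h1, conj_pow, (hf2 i).1, mul_one, mul_inv_cancel]
    · intro h2
      rw [h1, conj_eq_one_iff] at h2
      exact (hf2 i).2 h2⟩
  have hlow : Nat.card {v : V // v ≠ 0} * 3 ≤ Nat.card (Σ t : I, {v : {v : V // v ≠ 0} // (t.1 : V ≃ₗ[ZMod p] V) v.1 = v.1}) := by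
    have h1 : Nat.card ({v : V // v ≠ 0} × Fin 3) = Nat.card {v : V // v ≠ 0} * 3 := by
      rw [Nat.card_prod, Nat.card_eq_fintype_card (α := Fin 3), Fintype.card_fin]
    rw [← h1]
    refine Nat.card_le_card_of_injective (fun x => ⟨g x.1 x.2, ⟨x.1, hl x.1 x.2⟩⟩) ?_
    rintro ⟨v, i⟩ ⟨w, j⟩ hvw
    have h2 : g v i = g w j := (Sigma.mk.inj_iff.1 hvw).1
    have h3 : v = w := by
      have h4 : ∀ (s t : I) (x : {v : {v : V // v ≠ 0} // (s.1 : V ≃ₗ[ZMod p] V) v.1 = v.1})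
          (y : {v : {v : V // v ≠ 0} // (t.1 : V ≃ₗ[ZMod p] V) v.1 = v.1}), s = t → HEq x y → x.1 = y.1 := by
        rintro s _ x y rfl hxy
        rw [eq_of_heq hxy]
      exact h4 _ _ _ _ h2 (Sigma.mk.inj_iff.1 hvw).2
    subst h3
    have h5 : (l v)⁻¹ * f i * l v = (l v)⁻¹ * f j * l v := congrArg Subtype.val h2
    have h6 : f i = f j := by simpa using h5
    rw [hfinj h6]
  rw [Nat.card_sigma] at hlow
  have hup : ∀ t : I, Nat.card {v : {v : V // v ≠ 0} // (t.1 : V ≃ₗ[ZMod p] V) v.1 = v.1} = 63 := by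
    intro t
    have h1 := Fus.card_sub_ne_zero (fx (t.1 : V ≃ₗ[ZMod p] V)) (fun v => (t.1 : V ≃ₗ[ZMod p] V) v = v)
      (fun v => mem_fx.symm)
    rw [hfx] at h1
    omega
  rw [Finset.sum_congr rfl (fun t _ => hup t), Finset.sum_const, smul_eq_mul, Finset.card_univ,
    ← Nat.card_eq_fintype_card] at hlow
  have h1 := Fus.card_ne_zero (V := V)
  have h2 : Nat.card I ≤ 182 := hI
  have h3 : Nat.card I * 63 ≤ 182 * 63 := Nat.mul_le_mul_right _ h2
  rw [hV] at h1
  omega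

/-- `p = 3`, `|V| = 3 ^ 12` -/
theorem three (H : QL p K V G L h) (hS : H912.Bd.IsL 2 13 (L ⧸ Subgroup.center L)) (hp13 : 13 ≠ p)
    (h13 : ¬ 13 ∣ h) (hc13 : Nat.Coprime 13 (Nat.card (Subgroup.center L)))
    (hc3 : Nat.Coprime 3 (Nat.card (Subgroup.center L))) {m : ℕ} (hm : m * h = Nat.card G) (h3m : ¬ 3 ∣ m)
    (hV : Nat.card V = 531441) : False := by
  classical
  have h0 : 0 < h := Cfsg.Agent.H19.HT.h_pos H.half (QN.exists_ne H).choose_spec
  have hf : Fact (Nat.Prime 13) := ⟨by norm_num⟩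
  obtain ⟨zb, yb, hz, hz1, hy, hyz⟩ := T13.frob13 hS
  obtain ⟨z, hz', rfl⟩ := Lift.lift_pow hc13 zb hz
  obtain ⟨y, hy', rfl⟩ := Lift.lift_pow hc3 yb hy
  have h1 := Lift.lift_rel hc13 hz' hyz
  have hz2 : z ≠ 1 := by
    rintro rfl
    exact hz1 rfl
  obtain ⟨c, -, -, hc⟩ := frob H hf.out hp13 (z := z) (y := y) (a := 9) (e := 3) hz' h1
    (by
      have : Fact (Nat.Prime 3) := ⟨by norm_num⟩
      refine orderOf_eq_prime ?_ ?_
      · decide
      · decide) (by norm_num) hy'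
    (fun v hv => fpf_of_not_dvd H.half h13 (H.le z.2) (congrArg Subtype.val hz')
      (fun hc => hz2 (Subtype.ext hc)) hv)
  have hfx : Nat.card (fx (y : V ≃ₗ[ZMod p] V)) = 81 := by
    have h2 : Nat.card (fx (y : V ≃ₗ[ZMod p] V)) ^ 3 = 81 ^ 3 := by rw [hc, hV]; norm_num
    exact Nat.pow_left_injective (n := 3) (by norm_num) h2
  have hy3 : (y : V ≃ₗ[ZMod p] V) ^ 3 ^ 1 = 1 := by
    rw [pow_one]
    exact congrArg Subtype.val hy'
  have hcov := Fus.coverage H.half h0 hm H.le H.nrm Nat.prime_three h3m y.2 hy3 (N := 1092) (by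
    rw [← T13.card_S hS]
    have hch : ∀ Q : {Q : Subgroup (V ≃ₗ[ZMod p] V) // ∃ l ∈ L, Q = Subgroup.zpowers (l * y * l⁻¹)},
        ∃ l : L, Q.1 = Subgroup.zpowers ((l * y * l⁻¹ : L) : V ≃ₗ[ZMod p] V) := by
      rintro ⟨_, l, hl, rfl⟩
      exact ⟨⟨l, hl⟩, rfl⟩
    choose l hl using hch
    have hfinS : Finite (L ⧸ Subgroup.center L) := inferInstance
    refine Nat.card_le_card_of_injective (fun Q => (QuotientGroup.mk (l Q * y * (l Q)⁻¹) : L ⧸ Subgroup.center L)) ?_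
    intro Q R hQR
    have h3 : ∀ Q, (l Q * y * (l Q)⁻¹) ^ 3 = 1 := by
      intro Q
      rw [conj_pow, hy', mul_one, mul_inv_cancel]
    have h4 := Lift.eq_of_mk hc3 (h3 Q) (h3 R) hQR
    exact Subtype.ext (by rw [hl Q, hl R, h4]))
  rw [hV, hfx] at hcov
  omega

/-- `p = 3`, `|V| = 3 ^ 6`: `m` is divisible by 8 -/
theorem six (H : QL p K V G L h) (hS : H912.Bd.IsL 2 13 (L ⧸ Subgroup.center L)) (hp13 : 13 ≠ p) (hp2 : p ≠ 2)
    (h13 : ¬ 13 ∣ h) (hc13 : Nat.Coprime 13 (Nat.card (Subgroup.center L))) {m : ℕ} (hm : m * h = Nat.card G)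
    (hn : finrank K V = 6) : 8 ∣ m := by
  have h0 : 0 < h := Cfsg.Agent.H19.HT.h_pos H.half (QN.exists_ne H).choose_spec
  have hno : ∀ t : L, t ^ 2 = 1 → t ∈ Subgroup.center L := by
    intro t ht
    by_contra htc
    obtain ⟨c, hc, hc'⟩ := fx_inv H hS hp13 h13 hc13 ht htc
    have h1 := even_of_involution H hp2 ht hc'
    have h2 : finrank K V - c = 3 := by omega
    rw [h2] at h1
    exact absurd h1 (by decide)
  -- the centre has even order
  have hZ : 2 ∣ Nat.card (Subgroup.center L) := by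
    by_contra hc
    have hc2 : Nat.Coprime 2 (Nat.card (Subgroup.center L)) := (Nat.Prime.coprime_iff_not_dvd Nat.prime_two).2 hc
    obtain ⟨ab, bb, ha, hb, hab, ha1, hb1, hne⟩ := T13.v4 hS
    obtain ⟨a, ha', rfl⟩ := Lift.lift_pow hc2 ab ha
    exact ha1 ((QuotientGroup.eq_one_iff a).2 (hno a ha'))
  have h8 : 8 ∣ Nat.card L := by
    have h1 := (Subgroup.card_eq_card_quotient_mul_card_subgroup (Subgroup.center L))
    rw [T13.card_S hS] at h1
    obtain ⟨c, hc⟩ := hZ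
    rw [h1, hc]
    exact ⟨273 * c, by ring⟩
  obtain ⟨v, hv⟩ := QN.exists_ne H
  obtain ⟨k, hk, hk'⟩ := Fus.index_dvd H.half h0 hm H.le H.nrm hv
  refine dvd_trans ?_ hk
  rw [← hk'] at h8
  have hodd : ¬ 2 ∣ Nat.card (MulAction.stabilizer L v) := by
    intro hc
    have : Fact (Nat.Prime 2) := ⟨Nat.prime_two⟩
    obtain ⟨t, ht⟩ := exists_prime_orderOf_dvd_card' 2 hc
    have ht2 : (t : L) ^ 2 = 1 := by
      have h1 := pow_orderOf_eq_one t
      rw [ht] at h1
      exact congrArg Subtype.val h1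
    have ht1 : (t : L) ≠ 1 := by
      intro h1
      have h2 : t = 1 := Subtype.ext h1
      rw [h2, orderOf_one] at ht
      omega
    obtain ⟨c, hc⟩ := Lift.center_scal H (hno t ht2)
    have h1 : ((t : L) : V ≃ₗ[ZMod p] V) v = v := t.2
    rw [hc] at h1
    have h2 : (c - 1) • v = 0 := by rw [sub_smul, one_smul, h1, sub_self]
    rcases smul_eq_zero.1 h2 with h3 | h3
    · apply ht1
      apply Subtype.ext
      ext w
      rw [hc, sub_eq_zero.1 h3, one_smul]; rfl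
    · exact hv h3
  have h3 : Nat.Coprime 8 (Nat.card (MulAction.stabilizer L v)) := by
    have : Nat.Coprime (2 ^ 3) (Nat.card (MulAction.stabilizer L v)) :=
      Nat.Coprime.pow_left 3 ((Nat.Prime.coprime_iff_not_dvd Nat.prime_two).2 hodd)
    exact this
  exact h3.dvd_of_dvd_mul_right h8

/-- `p = 3`, `|V| = 3 ^ 6`, `|K| = 3`: `7` divides `m` -/
theorem seven (H : QL p K V G L h) (hS : H912.Bd.IsL 2 13 (L ⧸ Subgroup.center L)) {m : ℕ}
    (hm : m * h = Nat.card G) (hn : finrank K V = 6) (hq : Nat.card K = 3) : 7 ∣ m := by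
  have h0 : 0 < h := Cfsg.Agent.H19.HT.h_pos H.half (QN.exists_ne H).choose_spec
  have hK := QN.finiteK H
  by_contra h7m
  obtain ⟨v, hv⟩ := QN.exists_ne H
  have : Fact (Nat.Prime 7) := ⟨by norm_num⟩
  have h7 : 7 ∣ Nat.card L := by
    have h1 := (Subgroup.card_eq_card_quotient_mul_card_subgroup (Subgroup.center L))
    rw [T13.card_S hS] at h1
    rw [h1]
    exact ⟨156 * Nat.card (Subgroup.center L), by ring⟩
  have h2 := Fus.part_dvd_stab H.half h0 hm H.le H.nrm h7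
    ((Nat.Prime.coprime_iff_not_dvd (by norm_num)).2 h7m) hv
  obtain ⟨t, ht⟩ := exists_prime_orderOf_dvd_card' 7 h2
  have ht7 : (t : L) ^ 7 = 1 := by
    have h1 := pow_orderOf_eq_one t
    rw [ht] at h1
    exact congrArg Subtype.val h1
  have ht1 : ((t : L) : V ≃ₗ[ZMod p] V) ≠ 1 := by
    intro h1
    have h2 : t = 1 := Subtype.ext (Subtype.ext h1)
    rw [h2, orderOf_one] at ht
    omega
  obtain ⟨c, hc, hc1, hc2⟩ := Fus.card_fx (K := K) H.lin (t : L).2
  have hc3 := hc2 ht1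
  have hvf : v ∈ fx ((t : L) : V ≃ₗ[ZMod p] V) := mem_fx.2 t.2
  have hcp : c ≠ 0 := by
    rintro rfl
    rw [pow_zero] at hc
    have h3 := Finite.card_le_one_iff_subsingleton.1 hc.le
    have h4 : (⟨v, hvf⟩ : fx ((t : L) : V ≃ₗ[ZMod p] V)) = 0 := Subsingleton.elim _ _
    exact hv (congrArg Subtype.val h4)
  -- the congruence modulo 7
  have hmod : Nat.card V ≡ Nat.card (fx ((t : L) : V ≃ₗ[ZMod p] V)) [MOD 7] := by
    let P := Subgroup.zpowers ((t : L) : V ≃ₗ[ZMod p] V)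
    have hP : IsPGroup 7 P := Fus.isPGroup_zpowers (s := 7) (k := 1) (by
      rw [pow_one]
      exact congrArg Subtype.val ht7)
    have h3 := hP.card_modEq_card_fixedPoints V
    have h4 : Nat.card (MulAction.fixedPoints P V) = Nat.card (fx ((t : L) : V ≃ₗ[ZMod p] V)) := by
      rw [← Fus.fxs_zpowers]
      refine Nat.card_congr (Equiv.subtypeEquivRight fun w => ?_)
      change w ∈ MulAction.fixedPoints P V ↔ w ∈ Fus.fxs P
      rw [Fus.mem_fxs]
      exact ⟨fun h g hg => h ⟨g, hg⟩, fun h g => h g g.2⟩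
    rwa [h4] at h3
  rw [QN.card_V H, hn, hq, hc, hq] at hmod
  rw [hn] at hc3
  have : c = 1 ∨ c = 2 ∨ c = 3 ∨ c = 4 ∨ c = 5 := by omega
  rcases this with rfl | rfl | rfl | rfl | rfl <;> exact absurd hmod (by decide)

/-! ### The row -/

/-- **S3512, the row `PSL(2,13)`** -/
theorem row (H : QL p K V G L h) (hS : H912.Bd.IsL 2 13 (L ⧸ Subgroup.center L)) {m : ℕ} (hm : m * h = Nat.card G)
    (hpm : ¬ p ∣ m)
    (hl : (finrank K V, Nat.card K, m) ∈ [(6, 4, 819), (6, 4, 273), (12, 2, 273), (6, 3, 364), (6, 3, 182),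
      (6, 3, 104), (6, 3, 91), (6, 9, 1456), (12, 3, 1456)]) : False := by
  have hG := QN.card_G_dvd H
  rw [T13.card_mulAut hS] at hG
  obtain ⟨k, hk, hk0⟩ := QN.exists_card H
  have hp : p.Prime := Fact.out
  have hpq : p ∣ Nat.card K := by rw [hk]; exact dvd_pow_self _ hk0.ne'
  have h13p : Nat.Prime 13 := by norm_num
  have hV := QN.card_V H
  have hcc : ∀ r : ℕ, r.Prime → ¬ (r ∣ finrank K V ∧ r ∣ Nat.card K - 1) →
      r.Coprime (Nat.card (Subgroup.center L)) := fun r hr h => Lift.coprime_center H hr h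
  have hn13 : ∀ d : ℕ, m = 13 * d → ¬ 13 ∣ 168 * (Nat.card K - 1) → ¬ 13 ∣ h := by
    rintro d rfl hd ⟨j, rfl⟩
    apply hd
    rw [← hm] at hG
    have h1 : 13 * (13 * (d * j)) ∣ 13 * (168 * (Nat.card K - 1)) := by
      convert hG using 1
      · ring
      · ring
    exact (Dvd.intro _ rfl).trans ((Nat.mul_dvd_mul_iff_left (by norm_num)).1 h1)
  simp only [List.mem_cons, Prod.mk.injEq, List.not_mem_nil, or_false] at hl
  rcases hl with ⟨e1, e2, e3⟩ | ⟨e1, e2, e3⟩ | ⟨e1, e2, e3⟩ | ⟨e1, e2, e3⟩ | ⟨e1, e2, e3⟩ | ⟨e1, e2, e3⟩ |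
    ⟨e1, e2, e3⟩ | ⟨e1, e2, e3⟩ | ⟨e1, e2, e3⟩ <;> rw [e2] at hpq hn13 <;> rw [e1, e2] at hV hcc
  · have hp2 : p = 2 := (Nat.prime_dvd_prime_iff_eq hp Nat.prime_two).1
      (hp.dvd_of_dvd_pow (show p ∣ 2 ^ 2 by exact hpq))
    exact two H hS (by omega) (hn13 63 (by omega) (by norm_num)) (hcc 13 h13p (by norm_num))
      (hcc 2 Nat.prime_two (by norm_num)) hm (by omega) (by rw [hV]; norm_num) (by rw [e1, e2]; norm_num)
  · have hp2 : p = 2 := (Nat.prime_dvd_prime_iff_eq hp Nat.prime_two).1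
      (hp.dvd_of_dvd_pow (show p ∣ 2 ^ 2 by exact hpq))
    exact two H hS (by omega) (hn13 21 (by omega) (by norm_num)) (hcc 13 h13p (by norm_num))
      (hcc 2 Nat.prime_two (by norm_num)) hm (by omega) (by rw [hV]; norm_num) (by rw [e1, e2]; norm_num)
  · have hp2 : p = 2 := (Nat.prime_dvd_prime_iff_eq hp Nat.prime_two).1 hpq
    exact two H hS (by omega) (hn13 21 (by omega) (by norm_num)) (hcc 13 h13p (by norm_num))
      (hcc 2 Nat.prime_two (by norm_num)) hm (by omega) (by rw [hV]; norm_num) (by rw [e1, e2]; norm_num)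
  all_goals
    have hp3 : p = 3 := by
      refine (Nat.prime_dvd_prime_iff_eq hp Nat.prime_three).1 (hp.dvd_of_dvd_pow (n := 2) ?_)
      first
        | exact hpq
        | exact Dvd.dvd.mul_right hpq 3
  · have := six H hS (by omega) (by omega) (hn13 28 (by omega) (by norm_num)) (hcc 13 h13p (by norm_num)) hm e1
    omega
  · have := six H hS (by omega) (by omega) (hn13 14 (by omega) (by norm_num)) (hcc 13 h13p (by norm_num)) hm e1
    omega
  · have := seven H hS hm e1 e2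
    omega
  · have := six H hS (by omega) (by omega) (hn13 7 (by omega) (by norm_num)) (hcc 13 h13p (by norm_num)) hm e1
    omega
  · exact three H hS (by omega) (hn13 112 (by omega) (by norm_num)) (hcc 13 h13p (by norm_num))
      (hcc 3 Nat.prime_three (by norm_num)) hm (by omega) (by rw [hV]; norm_num)
  · exact three H hS (by omega) (hn13 112 (by omega) (by norm_num)) (hcc 13 h13p (by norm_num))
      (hcc 3 Nat.prime_three (by norm_num)) hm (by omega) (by rw [hV]; norm_num)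

end Cfsg.Agent.H742.HT.L213
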