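import Cfsg.Agent.H192.Ht.Free
import Cfsg.Agent.H742.HT.Fus

/-!
# S3512, quasisimple rows: lifting elements and relations from `L / Z(L)` to `L`

* `prime_dvd_center`: a prime divisor of `|Z(L)|` divides `dim_K V` and `|K| - 1`;
* `lift_pow`, `lift_rel`: elements of order `r` and relations `y z y⁻¹ = z ^ j` lift if `r ∤ |Z|`.
-/

set_option autoImplicit false
set_option linter.unusedSectionVars false

universe u w

namespace Cfsg.Agent.H742.HT.Lift

open Cfsg.Agent.H828.HT Cfsg.Agent.H742.HT Cfsg.Agent.H192.Ht Module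

section grp

variable {A : Type*} [Group A] [Finite A]

/-- an element of order dividing `r` of `A / Z(A)` lifts, `r` prime to `|Z(A)|` -/
theorem lift_pow {r : ℕ} (hr : r.Coprime (Nat.card (Subgroup.center A))) (x : A ⧸ Subgroup.center A) (hx : x ^ r = 1) :
    ∃ y : A, y ^ r = 1 ∧ (QuotientGroup.mk y : A ⧸ Subgroup.center A) = x := by
  obtain ⟨y, rfl⟩ := QuotientGroup.mk_surjective x
  rw [← QuotientGroup.mk_pow, QuotientGroup.eq_one_iff] at hx
  obtain ⟨a, ha0, ha1⟩ := (Nat.chineseRemainder hr.symm 0 1)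
  refine ⟨y ^ a, ?_, ?_⟩
  · rw [← pow_mul, mul_comm, pow_mul]
    obtain ⟨b, hb⟩ := (Nat.modEq_zero_iff_dvd.1 ha0)
    rw [hb, pow_mul]
    have h1 : (y ^ r) ^ Nat.card (Subgroup.center A) = 1 := by
      have h2 := pow_card_eq_one' (x := (⟨y ^ r, hx⟩ : Subgroup.center A))
      exact congrArg Subtype.val h2
    rw [h1, one_pow]
  · rw [QuotientGroup.mk_pow]
    have h1 : (QuotientGroup.mk y : A ⧸ Subgroup.center A) ^ r = 1 := by
      rw [← QuotientGroup.mk_pow]
      exact (QuotientGroup.eq_one_iff _).2 hx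
    have h2 : (QuotientGroup.mk y : A ⧸ Subgroup.center A) ^ a = QuotientGroup.mk y ^ 1 := by
      refine pow_eq_pow_iff_modEq.2 (Nat.ModEq.of_dvd (orderOf_dvd_of_pow_eq_one h1) ha1)
    rw [h2, pow_one]

/-- two elements of order dividing `r` with the same image in `A / Z(A)` agree, `r` prime to `|Z(A)|` -/
theorem eq_of_mk {r : ℕ} (hr : r.Coprime (Nat.card (Subgroup.center A))) {x y : A} (hx : x ^ r = 1) (hy : y ^ r = 1)
    (hxy : (QuotientGroup.mk x : A ⧸ Subgroup.center A) = QuotientGroup.mk y) : x = y := by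
  obtain ⟨z, hz, hz'⟩ : ∃ z ∈ Subgroup.center A, y = x * z :=
    ⟨x⁻¹ * y, QuotientGroup.eq.1 hxy, by rw [mul_inv_cancel_left]⟩
  have hc : Commute x z := Subgroup.mem_center_iff.1 hz x
  rw [hz', hc.mul_pow, hx, one_mul] at hy
  have h1 : z ^ Nat.card (Subgroup.center A) = 1 :=
    congrArg Subtype.val (pow_card_eq_one' (x := (⟨z, hz⟩ : Subgroup.center A)))
  have h2 : orderOf z = 1 := Nat.eq_one_of_dvd_coprimes hr (orderOf_dvd_of_pow_eq_one hy) (orderOf_dvd_of_pow_eq_one h1)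
  rw [hz', orderOf_eq_one_iff.1 h2, mul_one]

/-- relations `y z y⁻¹ = z ^ j` lift -/
theorem lift_rel {r j : ℕ} (hr : r.Coprime (Nat.card (Subgroup.center A))) {y z : A} (hz : z ^ r = 1)
    (h : (QuotientGroup.mk y : A ⧸ Subgroup.center A) * QuotientGroup.mk z * (QuotientGroup.mk y)⁻¹ =
      QuotientGroup.mk z ^ j) : y * z * y⁻¹ = z ^ j := by
  refine eq_of_mk hr ?_ ?_ ?_
  · rw [conj_pow, hz, mul_one, mul_inv_cancel]
  · rw [← pow_mul, mul_comm, pow_mul, hz, one_pow]
  · rw [QuotientGroup.mk_mul, QuotientGroup.mk_mul, QuotientGroup.mk_inv, QuotientGroup.mk_pow]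
    exact h

/-- commuting elements lift -/
theorem lift_comm {r : ℕ} (hr : r.Coprime (Nat.card (Subgroup.center A))) {y z : A} (hz : z ^ r = 1)
    (h : (QuotientGroup.mk y : A ⧸ Subgroup.center A) * QuotientGroup.mk z = QuotientGroup.mk z * QuotientGroup.mk y) :
    y * z = z * y := by
  have h1 := lift_rel (j := 1) hr hz (y := y) (by rw [h, mul_inv_cancel_right, pow_one])
  rwa [pow_one, mul_inv_eq_iff_eq_mul] at h1

end grp

variable {p : ℕ} [Fact p.Prime] {K : Type w} [Field K] {V : Type u} [AddCommGroup V] [Module (ZMod p) V] [Finite V]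
    [Module K V] {G L : Subgroup (V ≃ₗ[ZMod p] V)} {h : ℕ}

/-- an element of `L` that acts as a scalar `c` satisfies `c ^ dim = 1` -/
theorem scal_pow (H : QL p K V G L h) {x : L} {c : K} (hc : ∀ v, (x : V ≃ₗ[ZMod p] V) v = c • v) :
    c ^ finrank K V = 1 := by
  have : Module.Finite K V := QN.finiteDim H
  have h1 := QN.det_toK H x
  have h2 := congrArg (fun u : Kˣ => (u : K)) h1
  simp only [LinearEquiv.coe_det, Units.val_one] at h2
  rw [← h2]
  have h3 : ((QN.toK H x : V ≃ₗ[K] V) : V →ₗ[K] V) = c • LinearMap.id := by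
    ext v
    exact hc v
  rw [h3, LinearMap.det_smul, LinearMap.det_id, mul_one]

theorem center_scal (H : QL p K V G L h) {x : L} (hx : x ∈ Subgroup.center L) :
    ∃ c : K, ∀ v, (x : V ≃ₗ[ZMod p] V) v = c • v := by
  refine H.endo ((x : V ≃ₗ[ZMod p] V) : V →ₗ[ZMod p] V) ?_
  intro l hl v
  have h1 := Subgroup.mem_center_iff.1 hx ⟨l, hl⟩
  exact (congrArg (fun e : L => (e : V ≃ₗ[ZMod p] V) v) h1).symm

/-- a prime divisor of `|Z(L)|` divides `dim_K V` and `|K| - 1` -/
theorem prime_dvd_center (H : QL p K V G L h) {r : ℕ} (hr : r.Prime) (hd : r ∣ Nat.card (Subgroup.center L)) :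
    r ∣ finrank K V ∧ r ∣ Nat.card K - 1 := by
  have : Fact r.Prime := ⟨hr⟩
  have hK := QN.finiteK H
  obtain ⟨x, hx⟩ := exists_prime_orderOf_dvd_card' r hd
  have hx1 : orderOf (x : L) = r := by rw [Subgroup.orderOf_coe, hx]
  obtain ⟨c, hc⟩ := center_scal H x.2
  obtain ⟨v, hv⟩ := QN.exists_ne H
  have hpow : ∀ (k : ℕ) (w : V), (((x : L) : V ≃ₗ[ZMod p] V) ^ k) w = c ^ k • w := by
    intro k
    induction k with
    | zero => intro w; simp
    | succ k ih =>
      intro w
      rw [pow_succ, pow_succ]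
      change ((((x : L) : V ≃ₗ[ZMod p] V)) ^ k) (((x : L) : V ≃ₗ[ZMod p] V) w) = _
      rw [ih, hc, smul_smul]
  have hc0 : c ≠ 0 := by
    rintro rfl
    have h1 := hc v
    rw [zero_smul] at h1
    exact hv (((x : L) : V ≃ₗ[ZMod p] V).map_eq_zero_iff.1 h1)
  have hcr : c ^ r = 1 := by
    have h1 := hpow r v
    have h2 : (((x : L) : V ≃ₗ[ZMod p] V)) ^ r = 1 := by
      rw [← Subgroup.coe_pow, ← hx1, pow_orderOf_eq_one]; rfl
    rw [h2] at h1
    have h3 : (c ^ r - 1) • v = 0 := by rw [sub_smul, one_smul, ← h1]; simp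
    rcases smul_eq_zero.1 h3 with h4 | h4
    · exact sub_eq_zero.1 h4
    · exact absurd h4 hv
  have hc1 : c ≠ 1 := by
    rintro rfl
    have h1 : (x : L) = 1 := by
      apply Subtype.ext
      ext w
      rw [hc, one_smul]; rfl
    rw [h1, orderOf_one] at hx1
    exact hr.one_lt.ne hx1
  have ho : orderOf c = r := orderOf_eq_prime hcr hc1
  constructor
  · rw [← ho]
    exact orderOf_dvd_of_pow_eq_one (scal_pow H hc)
  · have h5 : orderOf (Units.mk0 c hc0) = orderOf c := by rw [← orderOf_units, Units.val_mk0]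
    rw [← ho, ← h5, ← Nat.card_units]
    exact orderOf_dvd_natCard _

/-- `r` prime, not dividing `dim` (or `|K| - 1`), is prime to `|Z(L)|` -/
theorem coprime_center (H : QL p K V G L h) {r : ℕ} (hr : r.Prime)
    (hd : ¬ (r ∣ finrank K V ∧ r ∣ Nat.card K - 1)) : r.Coprime (Nat.card (Subgroup.center L)) :=
  (Nat.Prime.coprime_iff_not_dvd hr).2 fun h => hd (prime_dvd_center H hr h)

end Cfsg.Agent.H742.HT.Lift
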